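import Cfsg.Agent.PermB.ZassElem
import Cfsg.Agent.CharInd.Frobenius

/-! Every Zassenhaus group has a point kernel (Frobenius's theorem). -/

set_option autoImplicit false

namespace Cfsg.Agent.PermB.ZData

open MulAction

variable {G α : Type*} [Group G] [MulAction G α]

/-- The kernel of the Frobenius group `stabilizer G a`. -/
theorem exists_kernel [Finite α] [Finite G] (hz : ZData G α) {a b : α} (hab : a ≠ b) :
    ∃ N : Subgroup G, IsKernel N a := by
  classical
  let X := stabilizer G a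
  let H : Subgroup X := (stabilizer G b).subgroupOf X
  have hH : ∀ x : X, x ∈ H ↔ (x : G) • b = b := fun x => Iff.rfl
  have hTI : ∀ g : X, g ∉ H → ∀ x ∈ H, g * x * g⁻¹ ∈ H → x = 1 := by
    intro g hg x hx hxg
    have hga : (g : G) • a = a := g.2
    rw [hH, Subgroup.coe_mul, Subgroup.coe_mul, Subgroup.coe_inv, mul_smul, mul_smul] at hxg
    have h1 : (x : G) • (g : G)⁻¹ • b = (g : G)⁻¹ • b := by
      rw [eq_inv_smul_iff]
      exact hxg
    refine Subtype.ext (hz.three _ hab (fun e => ?_) (fun e => ?_) x.2 ((hH x).1 hx) h1)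
    · exact hg ((hH g).2 (by rw [eq_inv_smul_iff] at e; exact e))
    · rw [eq_inv_smul_iff, hga] at e
      exact hab e
  obtain ⟨K, hKn, hK, hKc⟩ := CharInd.frobenius_kernel H hTI
  have hmem : ∀ {u : G}, u ∈ K.map X.subtype → ∃ k ∈ K, (k : G) = u := fun hu => hu
  have hfree : ∀ k ∈ K, ∀ y, y ≠ a → (k : G) • y = y → k = 1 := by
    intro k hk y hy hky
    obtain ⟨g, hga, hgb⟩ := hz.two hab (c := a) (d := y) hy.symm
    let g' : X := ⟨g, hga⟩
    have h1 : g'⁻¹ * k * g' ∈ H := by
      rw [hH]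
      show (g⁻¹ * (k : G) * g) • b = b
      rw [mul_smul, mul_smul, hgb, hky, ← hgb, inv_smul_smul]
    have h2 := (hK k).1 hk g' h1
    calc k = g' * (g'⁻¹ * k * g') * g'⁻¹ := by group
      _ = 1 := by rw [h2]; group
  refine ⟨K.map X.subtype, ⟨Subgroup.map_subtype_le K, ?_, fun y z hy hz' => ?_⟩⟩
  · rintro g hg _ ⟨u, hu, rfl⟩
    exact ⟨⟨g, hg⟩ * u * ⟨g, hg⟩⁻¹, hKn.conj_mem u hu _, rfl⟩
  · let F : K → {w : α // w ≠ a} := fun k => ⟨((k : X) : G) • y, fun e => hy (by
      refine MulAction.injective ((k : X) : G) (e.trans ?_)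
      exact ((k : X).2 : ((k : X) : G) • a = a).symm)⟩
    have hinj : Function.Injective F := by
      intro k l e
      have e' : ((k : X) : G) • y = ((l : X) : G) • y := congrArg Subtype.val e
      refine (inv_mul_eq_one.1 (Subtype.ext (hfree _ (l⁻¹ * k).2 y hy ?_))).symm
      show (((l : X) : G)⁻¹ * ((k : X) : G)) • y = y
      rw [mul_smul, e', inv_smul_smul]
    have hcard : Nat.card {w : α // w ≠ a} ≤ Nat.card K := by
      haveI : Fintype α := Fintype.ofFinite α
      have e1 := hKc.card_mul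
      rw [hz.card_stabilizer hab] at e1
      have e2 : Nat.card H = Nat.card (H2 (G := G) a b) := by
        rw [← Subgroup.card_map_of_injective X.subtype_injective, Subgroup.subgroupOf_map_subtype,
          inf_comm]
      rw [e2] at e1
      rw [Nat.card_eq_fintype_card, Fintype.card_subtype_compl, Fintype.card_subtype_eq,
        Nat.eq_of_mul_eq_mul_right Nat.card_pos e1, Nat.card_eq_fintype_card]
    obtain ⟨k, hk⟩ := ((Nat.bijective_iff_injective_and_card F).2
      ⟨hinj, le_antisymm (Nat.card_le_card_of_injective F hinj) hcard⟩).2 ⟨z, hz'⟩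
    refine ⟨⟨((k : X) : G), k, k.2, rfl⟩, congrArg Subtype.val hk, ?_⟩
    rintro ⟨_, l, hl, rfl⟩ hly
    have e : (⟨l, hl⟩ : K) = k := hinj (Subtype.ext (hly.trans (congrArg Subtype.val hk).symm))
    exact Subtype.ext (congrArg (fun w : K => ((w : X) : G)) e)

end Cfsg.Agent.PermB.ZData
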