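import Cfsg.Prelude.Def_LieExceptional
import Cfsg.Agent.PermB.ZassCount

/-! From `Cfsg.IsZassenhausGroup` to `ZData`. -/

set_option autoImplicit false

namespace Cfsg.Agent.PermB

theorem zData_of_isZassenhausGroup {G Ω : Type*} [Group G] [MulAction G Ω]
    (hZ : Cfsg.IsZassenhausGroup G Ω) : ZData G Ω :=
  ZData.of_isZassenhausGroup hZ.1 hZ.2.1 hZ.2.2.1

theorem three_le_card_of_isZassenhausGroup {G Ω : Type*} [Group G] [MulAction G Ω] [Finite Ω]
    (hZ : Cfsg.IsZassenhausGroup G Ω) : 3 ≤ Nat.card Ω := by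
  classical
  haveI : Fintype Ω := Fintype.ofFinite Ω
  obtain ⟨g, hg, a, b, hab, ha, hb⟩ := hZ.2.2.2.1
  obtain ⟨c, hc⟩ : ∃ c : Ω, g • c ≠ c := by
    by_contra hne
    push Not at hne
    exact hg ((zData_of_isZassenhausGroup hZ).faithful g hne)
  have h1 : a ≠ c := fun e => hc (e ▸ ha)
  have h2 : b ≠ c := fun e => hc (e ▸ hb)
  rw [Nat.card_eq_fintype_card]
  exact Fintype.two_lt_card_iff.2 ⟨a, b, c, hab, h1, h2⟩

end Cfsg.Agent.PermB
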