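import Cfsg.Agent.PermB.Basic
import Cfsg.Agent.Transfer.Frobenius
import Cfsg.Agent.S0016
import Mathlib.GroupTheory.SpecificGroups.ZGroup
import Mathlib.GroupTheory.SpecificGroups.Quaternion
import Mathlib.NumberTheory.Basic

/-!
Finite groups with one involution, one subgroup of order three, cyclic Sylow subgroups of odd
order and no subgroup of index two.
-/

set_option autoImplicit false

namespace Cfsg.Agent.PermB.IndexTwo

variable {X : Type*} [Group X]

theorem mem_of_pow_mem_coprime {C : Subgroup X} {g : X} {k m : ℕ} (hk : g ^ k ∈ C)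
    (hm : g ^ m ∈ C) (h : Nat.Coprime k m) : g ∈ C := by
  have e : g = (g ^ k) ^ Nat.gcdA k m * (g ^ m) ^ Nat.gcdB k m := by
    rw [← zpow_natCast g k, ← zpow_natCast g m, ← zpow_mul, ← zpow_mul, ← zpow_add,
      ← Nat.gcd_eq_gcd_ab, h.gcd_eq_one]
    simp
  rw [e]
  exact C.mul_mem (C.zpow_mem hk _) (C.zpow_mem hm _)

theorem commute_of_mem_zpowers {x y : X} (h : x ∈ Subgroup.zpowers y) : Commute x y := by
  obtain ⟨k, rfl⟩ := Subgroup.mem_zpowers_iff.1 h
  exact (Commute.refl y).zpow_left k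

/-- A power by `p ^ k` of an element normalising `⟨y⟩` and fixing its socle centralises `y`. -/
theorem pow_commute {p k : ℕ} [Fact p.Prime] {g y : X} (hy : orderOf y = p ^ (k + 1))
    (hn : g * y * g⁻¹ ∈ Subgroup.zpowers y)
    (hfix : g * y ^ p ^ k * g⁻¹ = y ^ p ^ k) : Commute (g ^ p ^ k) y := by
  obtain ⟨r, hr⟩ := Subgroup.mem_zpowers_iff.1 hn
  have hpow : ∀ n : ℕ, g ^ n * y * (g ^ n)⁻¹ = y ^ (r ^ n) := by
    intro n
    induction n with
    | zero => simp
    | succ n ih =>
      calc g ^ (n + 1) * y * (g ^ (n + 1))⁻¹ = g * (g ^ n * y * (g ^ n)⁻¹) * g⁻¹ := by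
            rw [pow_succ']; group
        _ = g * y ^ (r ^ n) * g⁻¹ := by rw [ih]
        _ = (g * y * g⁻¹) ^ (r ^ n) := by rw [conj_zpow]
        _ = y ^ (r ^ (n + 1)) := by rw [← hr, ← zpow_mul, pow_succ']
  have h1 : ((p : ℤ)) ∣ r - 1 := by
    have e : y ^ (((p ^ k : ℕ) : ℤ) * (r - 1)) = 1 := by
      rw [mul_sub, mul_one, zpow_sub, mul_comm, zpow_mul, hr, conj_zpow, zpow_natCast, hfix,
        mul_inv_cancel]
    have e' := orderOf_dvd_iff_zpow_eq_one.2 e
    rw [hy, pow_succ] at e'
    push_cast at e'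
    exact (mul_dvd_mul_iff_left (pow_ne_zero k (by
      exact_mod_cast (Fact.out : p.Prime).ne_zero))).1 e'
  have h2 : ((p : ℤ)) ^ (k + 1) ∣ r ^ p ^ k - 1 := by
    have := dvd_sub_pow_of_dvd_sub h1 k
    rwa [one_pow] at this
  have e : y ^ (r ^ p ^ k) = y := by
    have : y ^ (r ^ p ^ k - 1) = 1 := orderOf_dvd_iff_zpow_eq_one.1 (by rw [hy]; exact_mod_cast h2)
    rw [zpow_sub, zpow_one, mul_inv_eq_one] at this
    exact this
  have := hpow (p ^ k)
  rw [e] at this
  exact mul_inv_eq_iff_eq_mul.1 this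

/-- In addition, if the order of `g` is prime to `p`, then `g` centralises `y`. -/
theorem commute_of_coprime {p k : ℕ} [Fact p.Prime] {g y : X} (hy : orderOf y = p ^ (k + 1))
    (hn : g * y * g⁻¹ ∈ Subgroup.zpowers y)
    (hfix : g * y ^ p ^ k * g⁻¹ = y ^ p ^ k) (hg : Nat.Coprime (orderOf g) p) : Commute g y := by
  have h := mem_of_pow_mem_coprime (C := Subgroup.centralizer {y}) (g := g) (k := p ^ k)
    (m := orderOf g) ?_ (by rw [pow_orderOf_eq_one]; exact one_mem _)
    (Nat.Coprime.pow_left k hg.symm)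
  · exact (Subgroup.mem_centralizer_iff.1 h y rfl).symm
  · refine Subgroup.mem_centralizer_iff.2 fun w hw => ?_
    rw [Set.mem_singleton_iff.1 hw]
    exact (pow_commute hy hn hfix).eq.symm

/-- The automorphism group of the quaternion group of order eight has order dividing `24`. -/
theorem card_mulAut_quaternion_dvd : Nat.card (MulAut (QuaternionGroup 2)) ∣ 24 := by
  classical
  letI act : MulAction (MulAut (QuaternionGroup 2)) (QuaternionGroup 2 × QuaternionGroup 2) :=
    { smul := fun φ p => (φ p.1, φ p.2)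
      one_smul := fun p => rfl
      mul_smul := fun φ ψ p => rfl }
  let A : Finset (QuaternionGroup 2 × QuaternionGroup 2) :=
    Finset.univ.filter fun p => p.1 * p.1 ≠ 1 ∧ p.2 * p.2 ≠ 1 ∧ p.1 * p.2 ≠ p.2 * p.1
  have hA : A.card = 24 := by decide
  rw [← hA]
  refine dvd_card_of_orbits (G := MulAut (QuaternionGroup 2)) A (fun φ p hp => ?_)
    fun p hp => dvd_of_eq ?_
  · simp only [A, Finset.mem_filter, Finset.mem_univ, true_and] at hp ⊢
    refine ⟨fun h => hp.1 ?_, fun h => hp.2.1 ?_, fun h => hp.2.2 ?_⟩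
    · exact φ.injective (by rw [map_mul, map_one]; exact h)
    · exact φ.injective (by rw [map_mul, map_one]; exact h)
    · exact φ.injective (by rw [map_mul, map_mul]; exact h)
  · simp only [A, Finset.mem_filter, Finset.mem_univ, true_and] at hp
    refine Nat.card_eq_of_bijective
      (fun φ : MulAut (QuaternionGroup 2) => (⟨φ • p, MulAction.mem_orbit p φ⟩ : MulAction.orbit _ p))
      ⟨fun φ ψ h => ?_, ?_⟩
    · have h' : (φ p.1, φ p.2) = (ψ p.1, ψ p.2) := congrArg Subtype.val h
      have hgen : ∀ u v : QuaternionGroup 2, u * u ≠ 1 → v * v ≠ 1 → u * v ≠ v * u →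
          ∀ q, ∃ i : Fin 4, ∃ j : Fin 2, q = u ^ (i : ℕ) * v ^ (j : ℕ) := by decide
      refine MulEquiv.ext fun q => ?_
      obtain ⟨i, j, rfl⟩ := hgen p.1 p.2 hp.1 hp.2.1 hp.2.2 q
      rw [map_mul, map_mul, map_pow, map_pow, map_pow, map_pow,
        show φ p.1 = ψ p.1 from congrArg Prod.fst h', show φ p.2 = ψ p.2 from congrArg Prod.snd h']
    · rintro ⟨_, φ, rfl⟩
      exact ⟨φ, rfl⟩

variable [Finite X]

/-- Odd order normalisers of 2-subgroups centralise them, away from the quaternion group of order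
eight and the prime three. -/
theorem centralizes (huniq : ∀ u v : X, orderOf u = 2 → orderOf v = 2 → u = v) {R : Subgroup X}
    (hR : IsPGroup 2 R) {g : X} (hg : g ∈ Subgroup.normalizer (R : Set X))
    (hgo : Nat.Coprime (orderOf g) 2)
    (h8 : Nonempty (R ≃* QuaternionGroup 2) → Nat.Coprime (orderOf g) 3) :
    g ∈ Subgroup.centralizer (R : Set X) := by
  haveI : Fact (Nat.Prime 2) := ⟨Nat.prime_two⟩
  have hcyc : ∀ y ∈ R, g * y * g⁻¹ ∈ Subgroup.zpowers y → Commute g y := by
    intro y hy hn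
    obtain ⟨k, hk⟩ := IsPGroup.iff_orderOf.1 hR ⟨y, hy⟩
    rw [Subgroup.orderOf_mk] at hk
    rcases k with _ | k
    · rw [pow_zero, orderOf_eq_one_iff] at hk
      rw [hk]; exact Commute.one_right g
    refine commute_of_coprime hk hn (huniq _ _ ?_ ?_) hgo
    · rw [← MulAut.conj_apply, MulEquiv.orderOf_eq, orderOf_pow' _ (by positivity), hk,
        Nat.gcd_eq_right (pow_dvd_pow 2 (Nat.le_succ k)), pow_succ,
        Nat.mul_div_cancel_left _ (by positivity)]
    · rw [orderOf_pow' _ (by positivity), hk,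
        Nat.gcd_eq_right (pow_dvd_pow 2 (Nat.le_succ k)), pow_succ,
        Nat.mul_div_cancel_left _ (by positivity)]
  have hcyclic : IsCyclic R → g ∈ Subgroup.centralizer (R : Set X) := by
    intro hc
    obtain ⟨⟨y, hy⟩, hgen⟩ := hc.exists_generator
    have hgy : g * y * g⁻¹ ∈ R := (Subgroup.mem_normalizer_iff.1 hg y).1 hy
    have hmem : ∀ z : X, z ∈ R → z ∈ Subgroup.zpowers y := fun z hz => by
      obtain ⟨i, hi⟩ := Subgroup.mem_zpowers_iff.1 (hgen ⟨z, hz⟩)
      exact Subgroup.mem_zpowers_iff.2 ⟨i, congrArg Subtype.val hi⟩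
    have hc' := hcyc y hy (hmem _ hgy)
    refine Subgroup.mem_centralizer_iff.2 fun z hz => ?_
    obtain ⟨i, rfl⟩ := Subgroup.mem_zpowers_iff.1 (hmem z hz)
    exact (hc'.zpow_right i).eq.symm
  rcases Cfsg.Agent.S0016.result 2 hR (fun A B hA hB => by
    obtain ⟨u, hu⟩ := exists_prime_orderOf_dvd_card' (G := A) 2 (by rw [hA])
    obtain ⟨v, hv⟩ := exists_prime_orderOf_dvd_card' (G := B) 2 (by rw [hB])
    have hu' : orderOf (u : R) = 2 := by rw [Subgroup.orderOf_coe]; exact hu
    have hv' : orderOf (v : R) = 2 := by rw [Subgroup.orderOf_coe]; exact hv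
    have e : (u : R) = (v : R) := Subtype.ext (huniq _ _
      (by rw [Subgroup.orderOf_coe]; exact hu') (by rw [Subgroup.orderOf_coe]; exact hv'))
    have hA' : Subgroup.zpowers (u : R) = A :=
      Subgroup.eq_of_le_of_card_ge (Subgroup.zpowers_le.2 u.2) (le_of_eq (by
        rw [Nat.card_zpowers, hu', hA]))
    have hB' : Subgroup.zpowers (v : R) = B :=
      Subgroup.eq_of_le_of_card_ge (Subgroup.zpowers_le.2 v.2) (le_of_eq (by
        rw [Nat.card_zpowers, hv', hB]))
    rw [← hA', ← hB', e]) with hc | ⟨-, n, ⟨e⟩⟩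
  · exact hcyclic hc
  -- the quaternion groups
  rcases Nat.eq_zero_or_pos n with hn | hn
  · subst hn
    refine hcyclic ?_
    have hQ : IsCyclic (QuaternionGroup (2 ^ 0)) := by
      refine isCyclic_of_orderOf_eq_card (QuaternionGroup.xa 0) ?_
      rw [Nat.card_eq_fintype_card, QuaternionGroup.card, QuaternionGroup.orderOf_xa]
      simp
    exact isCyclic_of_surjective e.symm e.symm.surjective
  rcases Nat.lt_or_ge n 2 with hn2 | hn2
  · obtain rfl : n = 1 := by omega
    have h24 : ∀ φ : MulAut (QuaternionGroup (2 ^ 1)), orderOf φ ∣ 24 := fun φ =>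
      (orderOf_dvd_natCard φ).trans card_mulAut_quaternion_dvd
    have h3' := h8 ⟨e⟩
    let f : Subgroup.normalizer (R : Set X) →* MulAut (QuaternionGroup (2 ^ 1)) :=
      (MulAut.congr e).toMonoidHom.comp R.normalizerMonoidHom
    have h1 : f ⟨g, hg⟩ = 1 := by
      rw [← orderOf_eq_one_iff]
      refine Nat.eq_one_of_dvd_coprimes ?_ ((orderOf_map_dvd f ⟨g, hg⟩).trans
        (dvd_of_eq (Subgroup.orderOf_mk g hg))) (h24 (f ⟨g, hg⟩))
      rw [show (24 : ℕ) = 2 ^ 3 * 3 from rfl]
      exact Nat.Coprime.mul_right (Nat.Coprime.pow_right 3 hgo) h3'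
    have h2 : R.normalizerMonoidHom ⟨g, hg⟩ = 1 :=
      (MulAut.congr e).injective (h1.trans (map_one _).symm)
    have h3 : (⟨g, hg⟩ : Subgroup.normalizer (R : Set X)) ∈ R.normalizerMonoidHom.ker := h2
    rw [Subgroup.normalizerMonoidHom_ker, Subgroup.mem_subgroupOf] at h3
    exact h3
  · -- at least sixteen elements
    haveI : NeZero (2 ^ n) := ⟨by positivity⟩
    set A : X := ((e.symm (QuaternionGroup.a 1) : R) : X) with hAdef
    set B : X := ((e.symm (QuaternionGroup.xa 0) : R) : X) with hBdef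
    have hAo : orderOf A = 2 * 2 ^ n := by
      rw [hAdef, Subgroup.orderOf_coe, MulEquiv.orderOf_eq, QuaternionGroup.orderOf_a_one]
    have hsplit : ∀ z ∈ R, ∃ i : ℕ, z = A ^ i ∨ z = B * A ^ i := by
      intro z hz
      rcases hq : e ⟨z, hz⟩ with i | i
      · refine ⟨i.val, Or.inl ?_⟩
        have : (⟨z, hz⟩ : R) = (e.symm (QuaternionGroup.a 1)) ^ i.val := by
          apply e.injective
          rw [hq, map_pow, MulEquiv.apply_symm_apply, QuaternionGroup.a_one_pow,
            ZMod.natCast_zmod_val]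
        exact congrArg Subtype.val this
      · refine ⟨i.val, Or.inr ?_⟩
        have : (⟨z, hz⟩ : R)
            = e.symm (QuaternionGroup.xa 0) * (e.symm (QuaternionGroup.a 1)) ^ i.val := by
          apply e.injective
          rw [hq, map_mul, map_pow, MulEquiv.apply_symm_apply, MulEquiv.apply_symm_apply,
            QuaternionGroup.a_one_pow, ZMod.natCast_zmod_val, QuaternionGroup.xa_mul_a, zero_add]
        exact congrArg Subtype.val this
    have hAR : A ∈ R := (e.symm (QuaternionGroup.a 1) : R).2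
    have hBR : B ∈ R := (e.symm (QuaternionGroup.xa 0) : R).2
    have hout : ∀ i : ℕ, orderOf (B * A ^ i) = 4 := by
      intro i
      rw [hAdef, hBdef, ← SubmonoidClass.coe_pow, ← Subgroup.coe_mul, Subgroup.orderOf_coe,
        ← map_pow, ← map_mul, MulEquiv.orderOf_eq, QuaternionGroup.a_one_pow,
        QuaternionGroup.xa_mul_a, QuaternionGroup.orderOf_xa]
    have hconjA : g * A * g⁻¹ ∈ Subgroup.zpowers A := by
      obtain ⟨i, hi | hi⟩ := hsplit _ ((Subgroup.mem_normalizer_iff.1 hg A).1 hAR)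
      · exact hi ▸ Subgroup.pow_mem _ (Subgroup.mem_zpowers A) i
      · exfalso
        have h1 := hout i
        rw [← hi, ← MulAut.conj_apply, MulEquiv.orderOf_eq, hAo] at h1
        have : 2 ^ 2 ≤ 2 ^ n := Nat.pow_le_pow_right (by norm_num) hn2
        omega
    have hcA : Commute g A := hcyc A hAR hconjA
    obtain ⟨j, hj | hj⟩ := hsplit _ ((Subgroup.mem_normalizer_iff.1 hg B).1 hBR)
    · exfalso
      have hBA : B = A ^ j := by
        have : g * B * g⁻¹ = g * A ^ j * g⁻¹ := by
          rw [hj, (hcA.pow_right j).eq, mul_inv_cancel_right]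
        exact mul_left_cancel (mul_right_cancel this)
      have hB' : e.symm (QuaternionGroup.xa 0) = (e.symm (QuaternionGroup.a 1)) ^ j :=
        Subtype.ext hBA
      have := congrArg e hB'
      rw [map_pow, MulEquiv.apply_symm_apply, MulEquiv.apply_symm_apply,
        QuaternionGroup.a_one_pow] at this
      exact absurd this (by simp)
    have hit : ∀ m : ℕ, g ^ m * B * (g ^ m)⁻¹ = B * A ^ (m * j) := by
      intro m
      induction m with
      | zero => simp
      | succ m ih =>
        calc g ^ (m + 1) * B * (g ^ (m + 1))⁻¹ = g * (g ^ m * B * (g ^ m)⁻¹) * g⁻¹ := by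
              rw [pow_succ']; group
          _ = g * (B * A ^ (m * j)) * g⁻¹ := by rw [ih]
          _ = (g * B * g⁻¹) * (g * A ^ (m * j) * g⁻¹) := by group
          _ = B * A ^ ((m + 1) * j) := by
              rw [hj, (hcA.pow_right _).eq, mul_inv_cancel_right, mul_assoc, ← pow_add,
                Nat.succ_mul, add_comm]
    have hcB : Commute g B := by
      have h := mem_of_pow_mem_coprime (C := Subgroup.centralizer {B}) (g := g) (k := 2 * 2 ^ n)
        (m := orderOf g) ?_ (by rw [pow_orderOf_eq_one]; exact one_mem _) ?_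
      · exact (Subgroup.mem_centralizer_iff.1 h B rfl).symm
      · refine Subgroup.mem_centralizer_iff.2 fun w hw => ?_
        rw [Set.mem_singleton_iff.1 hw]
        have := hit (2 * 2 ^ n)
        have hA1 : A ^ (2 * 2 ^ n * j) = 1 := by rw [pow_mul, ← hAo, pow_orderOf_eq_one, one_pow]
        rw [hA1, mul_one] at this
        exact (mul_inv_eq_iff_eq_mul.1 this).symm
      · exact Nat.Coprime.mul_left hgo.symm (Nat.Coprime.pow_left n hgo.symm)
    refine Subgroup.mem_centralizer_iff.2 fun z hz => ?_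
    obtain ⟨i, rfl | rfl⟩ := hsplit z hz
    · exact (hcA.pow_right i).eq.symm
    · exact (hcB.mul_right (hcA.pow_right i)).eq.symm

/-- A normal 2-complement in a group of even order gives a subgroup of index two. -/
theorem exists_index_two_of_complement (h : Cfsg.HasNormalPComplement 2 X)
    (heven : 2 ∣ Nat.card X) : ∃ L : Subgroup X, L.index = 2 := by
  haveI : Fact (Nat.Prime 2) := ⟨Nat.prime_two⟩
  obtain ⟨P, M, hM, hc⟩ := h
  obtain ⟨k, hk⟩ := IsPGroup.iff_card.1 P.2
  have hk1 : 0 < k := by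
    rcases Nat.eq_zero_or_pos k with h0 | h0
    · exfalso
      rw [h0, pow_zero] at hk
      exact P.not_dvd_index (by
        rwa [← Subgroup.card_mul_index (P : Subgroup X), hk, one_mul] at heven)
    · exact h0
  obtain ⟨S, hS⟩ := Sylow.exists_subgroup_card_pow_prime (G := (P : Subgroup X)) 2 (n := k - 1)
    (by rw [hk]; exact pow_dvd_pow 2 (Nat.sub_le k 1))
  refine ⟨M ⊔ S.map (P : Subgroup X).subtype, ?_⟩
  have hcard := Subgroup.IsComplement'.card_mul hc
  have hSc : Nat.card (S.map (P : Subgroup X).subtype) = 2 ^ (k - 1) := by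
    rw [Subgroup.card_map_of_injective (Subgroup.subtype_injective _), hS]
  have hSd : Disjoint M (S.map (P : Subgroup X).subtype) :=
    hc.disjoint.mono_right (Subgroup.map_subtype_le S)
  have hjoin : Nat.card (M ⊔ S.map (P : Subgroup X).subtype : Subgroup X)
      = Nat.card M * 2 ^ (k - 1) := by
    rw [← hSc, ← Nat.card_prod]
    refine (Nat.card_eq_of_bijective
      (fun p : M × S.map (P : Subgroup X).subtype => (⟨(p.1 : X) * p.2,
        Subgroup.mul_mem_sup p.1.2 p.2.2⟩ : (M ⊔ S.map (P : Subgroup X).subtype : Subgroup X)))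
      ⟨fun p q h => ?_, fun x => ?_⟩).symm
    · exact Subgroup.mul_injective_of_disjoint hSd (congrArg Subtype.val h)
    · obtain ⟨x, hx⟩ := x
      obtain ⟨m, hm, s, hs, rfl⟩ := Subgroup.mem_sup_of_normal_left.1 hx
      exact ⟨(⟨m, hm⟩, ⟨s, hs⟩), rfl⟩
  have h1 := Subgroup.card_mul_index (M ⊔ S.map (P : Subgroup X).subtype)
  rw [hjoin, ← hcard, hk, show k = k - 1 + 1 by omega, pow_succ, Nat.add_sub_cancel,
    ← mul_assoc] at h1
  exact Nat.eq_of_mul_eq_mul_left (Nat.mul_pos Nat.card_pos (by positivity)) h1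

/-- From a subgroup of index two to one invariant under an involutory automorphism. -/
theorem exists_invariant_index_two (σ : X ≃* X) (hσ : ∀ x, σ (σ x) = x)
    (h : ∃ L : Subgroup X, L.index = 2) :
    ∃ L : Subgroup X, L.index = 2 ∧ ∀ x ∈ L, σ x ∈ L := by
  obtain ⟨L, hL⟩ := h
  by_cases hinv : ∀ x ∈ L, σ x ∈ L
  · exact ⟨L, hL, hinv⟩
  push Not at hinv
  obtain ⟨x₀, hx₀, hx₀'⟩ := hinv
  have hmul : ∀ a b, a * b ∈ L ↔ (a ∈ L ↔ b ∈ L) := fun a b =>
    Subgroup.mul_mem_iff_of_index_two hL
  let L' : Subgroup X :=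
    { carrier := {x | x ∈ L ↔ σ x ∈ L}
      one_mem' := by simp
      mul_mem' := fun {a b} ha hb => by
        show a * b ∈ L ↔ σ (a * b) ∈ L
        rw [map_mul, hmul, hmul]
        exact iff_congr ha hb
      inv_mem' := fun {a} ha => by
        show a⁻¹ ∈ L ↔ σ a⁻¹ ∈ L
        rw [map_inv, inv_mem_iff, inv_mem_iff]; exact ha }
  refine ⟨L', ?_, fun x hx => ?_⟩
  · rw [Subgroup.index_eq_two_iff']
    refine ⟨x₀, fun b => ?_⟩
    show Xor' (x₀ * b ∈ L ↔ σ (x₀ * b) ∈ L) (b ∈ L ↔ σ b ∈ L)
    rw [map_mul, hmul, hmul]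
    simp only [Xor', Xor]
    tauto
  · show σ x ∈ L ↔ σ (σ x) ∈ L
    rw [hσ]; exact Iff.symm hx

omit [Finite X] in
theorem commutator_le_centralizer_of_isCyclic (C : Subgroup X) [C.Normal] [IsCyclic C] :
    commutator X ≤ Subgroup.centralizer (C : Set X) := by
  letI : CommGroup (MulAut C) :=
    { (inferInstance : Group (MulAut C)) with
      mul_comm := fun ψ χ => (IsCyclic.mulAutMulEquiv (G := C)).injective (by
        rw [map_mul, map_mul, mul_comm]) }
  intro x hx
  have h : x ∈ (MulAut.conjNormal : X →* MulAut C).ker :=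
    Abelianization.commutator_subset_ker _ hx
  refine Subgroup.mem_centralizer_iff.2 fun c hc => ?_
  have := congrArg Subtype.val (DFunLike.congr_fun h ⟨c, hc⟩)
  simp only [MulAut.conjNormal_apply, MulAut.one_apply] at this
  exact (mul_inv_eq_iff_eq_mul.1 this).symm

/-- The structure theorem. -/
theorem exists_quaternion (heven : 2 ∣ Nat.card X)
    (h2 : ∀ u v : X, orderOf u = 2 → orderOf v = 2 → u = v)
    (h3 : ∀ u v : X, orderOf u = 3 → orderOf v = 3 → v ∈ Subgroup.zpowers u)
    (hodd : ∀ (p : ℕ) [Fact p.Prime] (P : Sylow p X), p ≠ 2 → IsCyclic P)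
    (hno : ∀ L : Subgroup X, L.index ≠ 2) :
    ∃ Q : Subgroup X, Q.Normal ∧ Nonempty (Q ≃* QuaternionGroup 2) ∧ ¬ 16 ∣ Nat.card X ∧
      (∀ x : X, Nat.Coprime (orderOf x) 6 → x ∈ Subgroup.centralizer (Q : Set X)) ∧
      ∃ z : X, orderOf z = 3 ∧ z ∈ Subgroup.centralizer (Q : Set X) := by
  haveI : Fact (Nat.Prime 2) := ⟨Nat.prime_two⟩
  haveI : Fact (Nat.Prime 3) := ⟨Nat.prime_three⟩
  have hconj : ∀ g x : X, orderOf (g * x * g⁻¹) = orderOf x := fun g x => by
    rw [← MulAut.conj_apply, MulEquiv.orderOf_eq]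
  -- some odd element acts non-trivially on a quaternion subgroup of order eight
  obtain ⟨R, hR, hRne, g₀, hg₀, hg₀o, hg₀c⟩ : ∃ R : Subgroup X, IsPGroup 2 R ∧ R ≠ ⊥ ∧
      ∃ g ∈ Subgroup.normalizer (R : Set X), Nat.Coprime (orderOf g) 2 ∧
        g ∉ Subgroup.centralizer (R : Set X) := by
    by_contra hne
    push Not at hne
    obtain ⟨L, hL⟩ := exists_index_two_of_complement
      (Transfer.hasNormalPComplement_of_coprime_centralize fun R hR hR1 g hg hgo =>
        hne R hR hR1 g hg hgo) heven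
    exact hno L hL
  have hg₀3 : 3 ∣ orderOf g₀ := by
    by_contra h
    exact hg₀c (centralizes h2 hR hg₀ hg₀o fun _ =>
      ((Nat.Prime.coprime_iff_not_dvd Nat.prime_three).2 h).symm)
  obtain ⟨z, hz⟩ := exists_prime_orderOf_dvd_card' (G := X) 3
    (hg₀3.trans (orderOf_dvd_natCard g₀))
  -- `z` is central
  have hzc : ∀ x : X, Commute x z := by
    by_contra hne
    push Not at hne
    obtain ⟨x₀, hx₀⟩ := hne
    have hinv : ∀ x : X, ¬ Commute x z → x * z * x⁻¹ = z⁻¹ := by
      intro x hx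
      obtain ⟨k, hk⟩ := Subgroup.mem_zpowers_iff.1 (h3 z (x * z * x⁻¹) hz (by rw [hconj, hz]))
      rw [← zpow_mod_orderOf, hz] at hk
      rcases (show k % ((3 : ℕ) : ℤ) = 0 ∨ k % ((3 : ℕ) : ℤ) = 1 ∨ k % ((3 : ℕ) : ℤ) = 2 by omega) with e | e | e <;> rw [e] at hk
      · exfalso
        rw [zpow_zero] at hk
        have := hconj x z
        rw [← hk, orderOf_one, hz] at this
        omega
      · exfalso
        rw [zpow_one] at hk
        exact hx (mul_inv_eq_iff_eq_mul.1 hk.symm)
      · have e3 : z ^ 3 = 1 := by rw [← hz, pow_orderOf_eq_one]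
        rw [← hk, eq_inv_iff_mul_eq_one, zpow_ofNat, ← pow_succ]
        exact e3
    have hmemc : ∀ y : X, y ∈ Subgroup.centralizer {z} ↔ Commute y z := fun y =>
      ⟨fun h => (Subgroup.mem_centralizer_iff.1 h z rfl).symm, fun h =>
        Subgroup.mem_centralizer_iff.2 fun w hw => by rw [Set.mem_singleton_iff.1 hw]; exact h.eq.symm⟩
    apply hno (Subgroup.centralizer {z})
    rw [Subgroup.index_eq_two_iff']
    refine ⟨x₀, fun b => ?_⟩
    rw [hmemc, hmemc]
    suffices hkey : ¬ (Commute (x₀ * b) z ↔ Commute b z) by simp only [Xor', Xor]; tauto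
    intro h
    by_cases hb : Commute b z
    · exact hx₀ (by
        have := (h.2 hb).mul_left hb.inv_left
        rwa [mul_inv_cancel_right] at this)
    · apply hb
      refine h.1 ?_
      show x₀ * b * z = z * (x₀ * b)
      have e1 := hinv _ hx₀
      have e2 := hinv _ hb
      rw [← mul_inv_eq_iff_eq_mul]
      calc x₀ * b * z * (x₀ * b)⁻¹ = x₀ * (b * z * b⁻¹) * x₀⁻¹ := by group
        _ = x₀ * z⁻¹ * x₀⁻¹ := by rw [e2]
        _ = (x₀ * z * x₀⁻¹)⁻¹ := by group
        _ = z := by rw [e1, inv_inv]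
  -- a normal 3-complement
  obtain ⟨P⟩ : Nonempty (Sylow 3 X) := inferInstance
  haveI := hodd 3 P (by norm_num)
  have hP : Subgroup.normalizer ((P : Subgroup X) : Set X) ≤
      Subgroup.centralizer ((P : Subgroup X) : Set X) := by
    intro g hg
    obtain ⟨⟨y, hy⟩, hgen⟩ := IsCyclic.exists_generator (α := (P : Subgroup X))
    have hmem : ∀ w : X, w ∈ (P : Subgroup X) → w ∈ Subgroup.zpowers y := fun w hw => by
      obtain ⟨i, hi⟩ := Subgroup.mem_zpowers_iff.1 (hgen ⟨w, hw⟩)
      exact Subgroup.mem_zpowers_iff.2 ⟨i, congrArg Subtype.val hi⟩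
    have hyc : g ∈ Subgroup.centralizer {y} := by
      obtain ⟨k, hk⟩ := IsPGroup.iff_orderOf.1 P.2 ⟨y, hy⟩
      rw [Subgroup.orderOf_mk] at hk
      have hcm : ∀ w : X, Commute w y → w ∈ Subgroup.centralizer {y} := fun w hw =>
        Subgroup.mem_centralizer_iff.2 fun v hv => by rw [Set.mem_singleton_iff.1 hv]; exact hw.eq.symm
      rcases k with _ | k
      · rw [pow_zero, orderOf_eq_one_iff] at hk
        exact hcm g (hk ▸ Commute.one_right g)
      have hsoc : g * y ^ 3 ^ k * g⁻¹ = y ^ 3 ^ k := by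
        have ho : orderOf (y ^ 3 ^ k) = 3 := by
          rw [orderOf_pow' _ (by positivity), hk, Nat.gcd_eq_right (pow_dvd_pow 3 (Nat.le_succ k)),
            pow_succ, Nat.mul_div_cancel_left _ (by positivity)]
        obtain ⟨i, hi⟩ := Subgroup.mem_zpowers_iff.1 (h3 z _ hz ho)
        rw [← hi, ((hzc g).zpow_right i).eq, mul_inv_cancel_right]
      let N := Subgroup.normalizer ((P : Subgroup X) : Set X)
      have hidx : g ^ ((P : Subgroup X).subgroupOf N).index ∈ (P : Subgroup X) := by
        have := Subgroup.pow_index_mem ((P : Subgroup X).subgroupOf N) ⟨g, hg⟩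
        exact this
      refine mem_of_pow_mem_coprime (k := 3 ^ k) (m := ((P : Subgroup X).subgroupOf N).index)
        (hcm _ (pow_commute hk (hmem _ ((Subgroup.mem_normalizer_iff.1 hg y).1 hy)) hsoc))
        (hcm _ (commute_of_mem_zpowers (hmem _ hidx))) (Nat.Coprime.pow_left k ?_)
      rw [Nat.Prime.coprime_iff_not_dvd Nat.prime_three]
      exact fun h => P.not_dvd_index (h.trans (Subgroup.relIndex_dvd_index_of_le P.le_normalizer))
    refine Subgroup.mem_centralizer_iff.2 fun w hw => ?_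
    obtain ⟨i, rfl⟩ := Subgroup.mem_zpowers_iff.1 (hmem w hw)
    exact (Commute.zpow_left (Subgroup.mem_centralizer_iff.1 hyc y rfl : Commute y g) i).eq
  obtain ⟨P', M, hM, hMc⟩ := Transfer.hasNormalPComplement_of_normalizer_le_centralizer P hP
  obtain ⟨k₃, hk₃⟩ := IsPGroup.iff_card.1 P'.2
  have hMidx : M.index = 3 ^ k₃ := by rw [hMc.symm.index_eq_card.trans hk₃]
  have hM3 : ¬ 3 ∣ Nat.card M := by
    have := hMc.index_eq_card
    rw [← this]
    exact P'.not_dvd_index
  have hmemM : ∀ x : X, Nat.Coprime (orderOf x) 3 → x ∈ M := fun x hx => by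
    have h1 := Subgroup.pow_index_mem M x
    rw [hMidx] at h1
    exact mem_of_pow_mem_coprime h1 (by rw [pow_orderOf_eq_one]; exact one_mem _)
      (Nat.Coprime.pow_left k₃ hx.symm)
  have hMco : ∀ x ∈ M, Nat.Coprime (orderOf x) 3 := fun x hx => by
    rw [Nat.coprime_comm, Nat.Prime.coprime_iff_not_dvd Nat.prime_three]
    intro h
    refine hM3 (h.trans ?_)
    rw [← Subgroup.orderOf_mk x hx]
    exact orderOf_dvd_natCard _
  -- a normal 2-complement of `M`
  obtain ⟨S, W₀, hW₀, hW₀c⟩ : Cfsg.HasNormalPComplement 2 M := by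
    refine Transfer.hasNormalPComplement_of_coprime_centralize fun R hR _ g hg hgo => ?_
    have h1 : (g : X) ∈ Subgroup.centralizer ((R.map M.subtype : Subgroup X) : Set X) := by
      refine centralizes h2 (hR.map _) ?_ (by rw [Subgroup.orderOf_coe]; exact hgo)
        fun _ => hMco g g.2
      rw [Subgroup.mem_normalizer_iff]
      intro x
      constructor
      · rintro ⟨r, hr, rfl⟩
        exact ⟨g * r * g⁻¹, (Subgroup.mem_normalizer_iff.1 hg r).1 hr, rfl⟩
      · rintro ⟨r, hr, hrx⟩
        refine ⟨g⁻¹ * r * g, ?_, ?_⟩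
        · have := (Subgroup.mem_normalizer_iff.1 ((Subgroup.normalizer (R : Set M)).inv_mem hg) r).1 hr
          rwa [inv_inv] at this
        · have e : (r : X) = g * x * (g : X)⁻¹ := hrx
          show (g : X)⁻¹ * r * g = x
          rw [e]; group
    refine Subgroup.mem_centralizer_iff.2 fun r hr => Subtype.ext ?_
    exact Subgroup.mem_centralizer_iff.1 h1 r ⟨r, hr, rfl⟩
  obtain ⟨k₂, hk₂⟩ := IsPGroup.iff_card.1 S.2
  have hW₀idx : W₀.index = 2 ^ k₂ := by rw [hW₀c.symm.index_eq_card.trans hk₂]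
  let W : Subgroup X := W₀.map M.subtype
  have hWodd : ¬ 2 ∣ Nat.card W := by
    rw [Subgroup.card_map_of_injective M.subtype_injective, ← hW₀c.index_eq_card]
    exact S.not_dvd_index
  have hWmem : ∀ x : X, x ∈ W ↔ Nat.Coprime (orderOf x) 6 := by
    intro x
    rw [show (6 : ℕ) = 2 * 3 from rfl, Nat.coprime_mul_iff_right]
    constructor
    · intro hx
      obtain ⟨y, hy, rfl⟩ := hx
      refine ⟨?_, hMco _ y.2⟩
      rw [Nat.coprime_comm, Nat.Prime.coprime_iff_not_dvd Nat.prime_two]
      intro h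
      refine hWodd (h.trans ?_)
      rw [← Subgroup.orderOf_mk (H := W) (M.subtype y) ⟨y, hy, rfl⟩]
      exact orderOf_dvd_natCard _
    · rintro ⟨hx2, hx3⟩
      refine ⟨⟨x, hmemM x hx3⟩, ?_, rfl⟩
      have h1 := Subgroup.pow_index_mem W₀ (⟨x, hmemM x hx3⟩ : M)
      rw [hW₀idx] at h1
      exact mem_of_pow_mem_coprime h1 (by rw [pow_orderOf_eq_one]; exact one_mem _)
        (Nat.Coprime.pow_left k₂ (by rw [Subgroup.orderOf_mk]; exact hx2.symm))
  haveI hWn : W.Normal := ⟨fun x hx g => (hWmem _).2 (by rw [hconj]; exact (hWmem x).1 hx)⟩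
  haveI hWZ : IsZGroup W := by
    refine ⟨fun p hp P' => ?_⟩
    haveI : Fact p.Prime := ⟨hp⟩
    have hPX : IsPGroup p ((P' : Subgroup W).map W.subtype) := P'.2.map _
    obtain ⟨T, hT⟩ := hPX.exists_le_sylow
    by_cases hp2 : p = 2
    · subst hp2
      obtain ⟨j, hj⟩ := IsPGroup.iff_card.1 P'.2
      rcases Nat.eq_zero_or_pos j with hj0 | hj0
      · haveI : Subsingleton (P' : Subgroup W) :=
          (Nat.card_eq_one_iff_unique.1 (by rw [hj, hj0, pow_zero])).1
        infer_instance
      · exfalso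
        exact hWodd ((dvd_pow_self 2 hj0.ne').trans
          (hj ▸ Subgroup.card_subgroup_dvd_card (P' : Subgroup W)))
    · haveI := hodd p T hp2
      have h1 : IsCyclic ((P' : Subgroup W).map W.subtype) :=
        isCyclic_of_injective (Subgroup.inclusion hT) (Subgroup.inclusion_injective hT)
      exact isCyclic_of_injective
        ((P' : Subgroup W).equivMapOfInjective W.subtype W.subtype_injective).toMonoidHom
        ((P' : Subgroup W).equivMapOfInjective W.subtype W.subtype_injective).injective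
  -- every 2-element is in the commutator subgroup
  have hcomm : ∀ q : X, (∃ m, orderOf q = 2 ^ m) → q ∈ commutator X := by
    rintro q ⟨m, hm⟩
    by_contra hq
    let π : X →* Abelianization X := Abelianization.of
    haveI : Finite (Abelianization X) := Finite.of_surjective π Quotient.mk_surjective
    have hq1 : π q ≠ 1 := fun e => hq ((QuotientGroup.eq_one_iff q).1 e)
    obtain ⟨j, -, hj⟩ := (Nat.dvd_prime_pow Nat.prime_two).1 (hm ▸ orderOf_map_dvd π q)
    have h2A : 2 ∣ Nat.card (Abelianization X) := by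
      refine dvd_trans ?_ (orderOf_dvd_natCard (π q))
      rw [hj]
      refine dvd_pow_self 2 ?_
      rintro rfl
      exact hq1 (orderOf_eq_one_iff.1 (by rw [hj, pow_zero]))
    obtain ⟨L, hL⟩ := exists_index_two_of_complement
      (Transfer.hasNormalPComplement_of_coprime_centralize (G := Abelianization X) (p := 2)
        fun R _ _ g _ _ => Subgroup.mem_centralizer_iff.2 fun r _ => mul_comm r g) h2A
    exact hno (L.comap π) (by rw [L.index_comap_of_surjective Quotient.mk_surjective, hL])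
  -- 2-elements centralise `W`
  have hWc : ∀ q : X, (∃ m, orderOf q = 2 ^ m) → ∀ w ∈ W, Commute q w := by
    intro q hq w hw
    have hqc := hcomm q hq
    let W' : Subgroup X := (commutator W).map W.subtype
    haveI : W'.Normal := inferInstance
    haveI : IsCyclic W' := by
      haveI := IsZGroup.isCyclic_commutator (G := W)
      exact isCyclic_of_surjective ((commutator W).equivMapOfInjective W.subtype W.subtype_injective)
        ((commutator W).equivMapOfInjective W.subtype W.subtype_injective).surjective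
    have hW'c : ∀ v ∈ W', Commute q v := fun v hv =>
      (Subgroup.mem_centralizer_iff.1 (commutator_le_centralizer_of_isCyclic W' hqc) v hv).symm
    let π := QuotientGroup.mk' W'
    haveI : (W.map π).Normal := hWn.map π (QuotientGroup.mk'_surjective W')
    haveI : IsCyclic (W.map π) := by
      let f : W →* W.map π := π.subgroupMap W
      have hf : Function.Surjective f := π.subgroupMap_surjective W
      letI : CommGroup (W.map π) :=
        { (inferInstance : Group (W.map π)) with
          mul_comm := fun a b => by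
            obtain ⟨a, rfl⟩ := hf a
            obtain ⟨b, rfl⟩ := hf b
            rw [← map_mul, ← map_mul, ← mul_inv_eq_one, ← map_inv, ← map_mul]
            refine Subtype.ext ((QuotientGroup.eq_one_iff _).2
              ⟨a * b * a⁻¹ * b⁻¹, ?_, by simp [mul_assoc]⟩)
            rw [SetLike.mem_coe, commutator_def]
            exact Subgroup.commutator_mem_commutator (Subgroup.mem_top a) (Subgroup.mem_top b) }
      have hf' : Function.Surjective (Abelianization.lift f) := fun y => by
        obtain ⟨x, rfl⟩ := hf y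
        exact ⟨Abelianization.of x, Abelianization.lift_apply_of f x⟩
      exact isCyclic_of_surjective _ hf'
    have h1 : π q ∈ commutator (X ⧸ W') := by
      have : π q ∈ (commutator X).map π := ⟨q, hqc, rfl⟩
      rw [commutator_def, Subgroup.map_commutator] at this
      exact Subgroup.commutator_mono le_top le_top this
    have h2' := Subgroup.mem_centralizer_iff.1
      (commutator_le_centralizer_of_isCyclic (W.map π) h1) (π w) ⟨w, hw, rfl⟩
    set v := w⁻¹ * (q * w * q⁻¹) with hv
    have hvW' : v ∈ W' := by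
      rw [← QuotientGroup.eq_one_iff]
      show π v = 1
      rw [hv, map_mul, map_mul, map_mul, map_inv, map_inv, ← h2', mul_inv_cancel_right,
        inv_mul_cancel]
    have hqv := hW'c v hvW'
    have hit : ∀ n : ℕ, q ^ n * w * (q ^ n)⁻¹ = w * v ^ n := by
      intro n
      induction n with
      | zero => simp
      | succ n ih =>
        calc q ^ (n + 1) * w * (q ^ (n + 1))⁻¹ = q * (q ^ n * w * (q ^ n)⁻¹) * q⁻¹ := by
              rw [pow_succ']; group
          _ = q * (w * v ^ n) * q⁻¹ := by rw [ih]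
          _ = (q * w * q⁻¹) * (q * v ^ n * q⁻¹) := by group
          _ = w * v * v ^ n := by rw [(hqv.pow_right n).eq, hv]; group
          _ = w * v ^ (n + 1) := by rw [pow_succ', mul_assoc]
    obtain ⟨m, hm⟩ := hq
    have hv1 : v ^ (2 ^ m) = 1 := by
      have := hit (2 ^ m)
      rw [← hm, pow_orderOf_eq_one] at this
      rw [← hm]
      simpa using this
    have hvW : v ∈ W := Subgroup.map_subtype_le _ hvW'
    have hvone : v = 1 := by
      rw [← orderOf_eq_one_iff]
      refine Nat.eq_one_of_dvd_coprimes ?_ (dvd_refl _) (orderOf_dvd_iff_pow_eq_one.2 hv1)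
      exact Nat.Coprime.pow_right m
        (Nat.Coprime.coprime_dvd_right (by norm_num) ((hWmem v).1 hvW))
    rw [hv, inv_mul_eq_one] at hvone
    exact (mul_inv_eq_iff_eq_mul.1 hvone.symm)
  -- the Sylow 2-subgroup is normal
  let Q : Subgroup X := (S : Subgroup M).map M.subtype
  have hQp : IsPGroup 2 Q := S.2.map _
  have h2elt : ∀ x : X, x ∈ Q ↔ ∃ m, orderOf x = 2 ^ m := by
    intro x
    constructor
    · intro hx
      obtain ⟨m, hm⟩ := IsPGroup.iff_orderOf.1 hQp ⟨x, hx⟩
      exact ⟨m, by rwa [Subgroup.orderOf_mk] at hm⟩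
    · rintro ⟨m, hm⟩
      have hxM : x ∈ M := hmemM x (by rw [hm]; exact Nat.Coprime.pow_left m (by norm_num))
      obtain ⟨⟨⟨w, hw⟩, ⟨q, hq⟩⟩, hwq⟩ := hW₀c.2 (⟨x, hxM⟩ : M)
      have hwq' : (w : X) * q = x := congrArg Subtype.val hwq
      obtain ⟨m', hm'⟩ := IsPGroup.iff_orderOf.1 S.2 ⟨q, hq⟩
      have hc : Commute (q : X) w := hWc q
        ⟨m', (Subgroup.orderOf_coe q).trans ((Subgroup.orderOf_mk q hq).symm.trans hm')⟩ w ⟨w, hw, rfl⟩
      have e1 : (w : X) = x * (q : X)⁻¹ := by rw [← hwq', mul_inv_cancel_right]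
      have hcx : Commute x (q : X)⁻¹ := by
        rw [← hwq']; exact (hc.symm.mul_left (Commute.refl _)).inv_right
      have hw1 : (w : X) = 1 := by
        rw [← orderOf_eq_one_iff]
        refine Nat.eq_one_of_dvd_coprimes (Nat.Coprime.pow_right (max m m')
          (Nat.Coprime.coprime_dvd_right (show 2 ∣ 6 by norm_num) ((hWmem w).1 ⟨w, hw, rfl⟩))) (dvd_refl _) ?_
        rw [e1]
        refine (hcx.orderOf_mul_dvd_lcm).trans (Nat.lcm_dvd ?_ ?_)
        · rw [hm]; exact pow_dvd_pow 2 (le_max_left _ _)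
        · rw [orderOf_inv, Subgroup.orderOf_coe]
          rw [Subgroup.orderOf_mk] at hm'
          rw [hm']; exact pow_dvd_pow 2 (le_max_right _ _)
      rw [hw1, one_mul] at hwq'
      exact ⟨q, hq, hwq'⟩
  have hQn : Q.Normal := ⟨fun x hx g => (h2elt _).2 (by rw [hconj]; exact (h2elt x).1 hx)⟩
  have hRQ : R ≤ Q := fun x hx => (h2elt x).2 (by
    obtain ⟨m, hm⟩ := IsPGroup.iff_orderOf.1 hR ⟨x, hx⟩
    exact ⟨m, by rwa [Subgroup.orderOf_mk] at hm⟩)
  have hQ8 : Nonempty (Q ≃* QuaternionGroup 2) := by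
    by_contra h8
    refine hg₀c (Subgroup.centralizer_le (SetLike.coe_subset_coe.2 hRQ) (centralizes h2 hQp ?_ hg₀o
      fun h => absurd h h8))
    rw [Subgroup.normalizer_eq_top_iff.2 hQn]; trivial
  refine ⟨Q, hQn, hQ8, fun h16 => ?_, fun x hx => ?_, z, hz,
    Subgroup.mem_centralizer_iff.2 fun q _ => (hzc q).eq⟩
  · obtain ⟨T, hT⟩ := Sylow.exists_subgroup_card_pow_prime (G := X) 2 (n := 4) (by simpa using h16)
    have hTQ : T ≤ Q := fun x hx => (h2elt x).2 (by
      obtain ⟨m, -, hm⟩ := (Nat.dvd_prime_pow Nat.prime_two).1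
        (show orderOf x ∣ 2 ^ 4 by
          rw [← hT, ← Subgroup.orderOf_mk x hx]; exact orderOf_dvd_natCard _)
      exact ⟨m, hm⟩)
    have := Subgroup.card_dvd_of_le hTQ
    obtain ⟨e⟩ := hQ8
    rw [hT, Nat.card_congr e.toEquiv, Nat.card_eq_fintype_card, QuaternionGroup.card] at this
    norm_num at this
  · refine Subgroup.mem_centralizer_iff.2 fun q hq => ?_
    exact (hWc q ((h2elt q).1 hq) x ((hWmem x).2 hx)).eq

end Cfsg.Agent.PermB.IndexTwo
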