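import Cfsg.Agent.PermB.Basic
import Mathlib.GroupTheory.SpecificGroups.Quaternion
import Mathlib.NumberTheory.SumTwoSquares
import Mathlib.FieldTheory.Finite.Basic
import Mathlib.LinearAlgebra.Span.Basic
import Mathlib.LinearAlgebra.Pi
import Mathlib.Tactic.LinearCombination
import Mathlib.Tactic.Module
import Mathlib.Algebra.Module.ZMod

/-!
A linear group transitive on nonzero vectors with a normal quaternion subgroup of order eight
acts on a plane.
-/

set_option autoImplicit false

namespace Cfsg.Agent.PermB

theorem exists_sq_add_sq_eq_neg_one (p : ℕ) [Fact p.Prime] :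
    ∃ α β : ZMod p, α * α + β * β = -1 := by
  obtain ⟨α, β, h⟩ := ZMod.sq_add_sq p (-1)
  exact ⟨α, β, by rw [← h]; ring⟩

variable {X V : Type*} [Group X] [AddCommGroup V] {p : ℕ}

/-- A line over a prime field. -/
theorem card_span_singleton [Fact p.Prime] [Module (ZMod p) V] {u : V} (hu : u ≠ 0) :
    Nat.card (Submodule.span (ZMod p) {u} : Submodule (ZMod p) V) = p := by
  rw [← Nat.card_congr (Equiv.ofBijective
    (fun c : ZMod p => (⟨c • u, Submodule.mem_span_singleton.2 ⟨c, rfl⟩⟩ :
      (Submodule.span (ZMod p) {u} : Submodule (ZMod p) V)))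
    ⟨fun c c' h => by
      by_contra hne
      have h' : c • u = c' • u := congrArg Subtype.val h
      have : (c - c') • u = 0 := by rw [sub_smul, h', sub_self]
      rw [smul_eq_zero] at this
      rcases this with h0 | h0
      · exact hne (sub_eq_zero.1 h0)
      · exact hu h0,
    fun ⟨w, hw⟩ => by
      obtain ⟨c, rfl⟩ := Submodule.mem_span_singleton.1 hw
      exact ⟨c, rfl⟩⟩), Nat.card_zmod]

/-- The dimension is two and the centraliser of the quaternion group has order dividing
`p - 1`. -/
theorem quaternion_plane [Fact p.Prime] [Module (ZMod p) V] [Finite V] [Nontrivial V] (hp2 : p ≠ 2)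
    (ρ : X →* Module.End (ZMod p) V) (hfpf : ∀ x v, ρ x v = v → v ≠ 0 → x = 1)
    (htr : ∀ u v : V, u ≠ 0 → v ≠ 0 → ∃ x, ρ x u = v)
    (Q : Subgroup X) (hQ : Q.Normal) (e : Q ≃* QuaternionGroup 2) :
    Nat.card V = p ^ 2 ∧
      Nat.card (Subgroup.centralizer (Q : Set X)) ∣ p - 1 := by
  classical
  have hp : p.Prime := Fact.out
  have h2 : (2 : ZMod p) ≠ 0 := by
    intro h
    have : ((2 : ℕ) : ZMod p) = 0 := by exact_mod_cast h
    rw [ZMod.natCast_eq_zero_iff] at this
    exact hp2 ((Nat.prime_dvd_prime_iff_eq hp Nat.prime_two).1 this)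
  set qi : Q := e.symm (QuaternionGroup.a 1) with hqi
  set qj : Q := e.symm (QuaternionGroup.xa 0) with hqj
  set qt : Q := e.symm (QuaternionGroup.a 2) with hqt
  set I := ρ (qi : X) with hI
  set J := ρ (qj : X) with hJ
  have hρQ : ∀ q q' : Q, ρ ((q * q' : Q) : X) = ρ (q : X) * ρ (q' : X) := fun q q' => by
    rw [Subgroup.coe_mul, map_mul]
  have ht : ρ (qt : X) = -1 := by
    have htt : qt * qt = 1 := by
      rw [hqt, ← map_mul, show QuaternionGroup.a 2 * QuaternionGroup.a 2 = (1 : QuaternionGroup 2)
        by decide, map_one]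
    have ht1 : (qt : X) ≠ 1 := by
      intro h
      have h' : qt = 1 := Subtype.ext h
      rw [hqt, ← map_one e.symm] at h'
      exact absurd (e.symm.injective h') (by decide)
    refine LinearMap.ext fun v => ?_
    by_contra hne
    have hne' : ρ (qt : X) v + v ≠ 0 := fun h => hne (by
      rw [eq_neg_of_add_eq_zero_left h]; rfl)
    refine ht1 (hfpf _ _ ?_ hne')
    rw [map_add, ← Module.End.mul_apply, ← hρQ, htt, OneMemClass.coe_one, map_one,
      Module.End.one_apply, add_comm]
  have hII : I * I = -1 := by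
    rw [← ht, hI, ← hρQ, hqi, ← map_mul]; rfl
  have hJJ : J * J = -1 := by
    rw [← ht, hJ, ← hρQ, hqj, ← map_mul,
      show QuaternionGroup.xa 0 * QuaternionGroup.xa 0 = (QuaternionGroup.a 2 : QuaternionGroup 2)
        by decide]
  have hJI : J * I = -(I * J) := by
    have h : qj * qi = qt * (qi * qj) := by
      rw [hqi, hqj, hqt, ← map_mul, ← map_mul, ← map_mul]
      congr 1
    rw [hJ, hI, ← hρQ, h, hρQ, hρQ, ht, neg_one_mul]
  have aII : ∀ v, I (I v) = -v := fun v => by rw [← Module.End.mul_apply, hII]; rfl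
  have aJJ : ∀ v, J (J v) = -v := fun v => by rw [← Module.End.mul_apply, hJJ]; rfl
  have aJI : ∀ v, J (I v) = -I (J v) := fun v => by rw [← Module.End.mul_apply, hJI]; rfl
  obtain ⟨α, β, hab⟩ := exists_sq_add_sq_eq_neg_one p
  set z : Module.End (ZMod p) V := α • I + β • J with hz
  set w : Module.End (ZMod p) V := I * J with hw
  have az : ∀ v, z v = α • I v + β • J v := fun v => rfl
  have aw : ∀ v, w v = I (J v) := fun v => rfl
  have hzz : ∀ v, z (z v) = v := by
    intro v
    simp only [az, map_add, map_smul, aII, aJJ, aJI, smul_add, smul_neg, smul_smul]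
    have : (-(α * α) + -(β * β)) • v = v := by
      rw [show -(α * α) + -(β * β) = (1 : ZMod p) by linear_combination -hab, one_smul]
    calc _ = (-(α * α) + -(β * β)) • v := by module
      _ = v := this
  have hzw : ∀ v, z (w v) = -w (z v) := by
    intro v
    simp only [az, aw, map_add, map_smul, map_neg, aII, aJJ, aJI, smul_add, smul_neg, neg_add,
      neg_neg, smul_smul]
  have hww : ∀ v, w (w v) = -v := by
    intro v
    simp only [aw, aJI, aII, aJJ, map_neg, neg_neg]
  -- an eigenvector
  have hdec : ∀ v : V, ∃ x y : V, z x = x ∧ z y = y ∧ v = x + w y := by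
    intro v
    refine ⟨(2 : ZMod p)⁻¹ • (v + z v), -((2 : ZMod p)⁻¹ • w (v - z v)), ?_, ?_, ?_⟩
    · rw [map_smul, map_add, hzz, add_comm]
    · rw [map_neg, map_smul, hzw, map_sub, hzz, ← map_neg, neg_sub]
    · rw [map_neg, map_smul, hww, smul_neg, neg_neg, ← smul_add,
        show v + z v + (v - z v) = (2 : ZMod p) • v by rw [two_smul]; abel, smul_smul,
        inv_mul_cancel₀ h2, one_smul]
  obtain ⟨u, hu0, hu⟩ : ∃ u : V, u ≠ 0 ∧ z u = u := by
    obtain ⟨v, hv⟩ := exists_ne (0 : V)
    obtain ⟨x, y, hx, hy, rfl⟩ := hdec v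
    by_cases hx0 : x = 0
    · refine ⟨y, fun hy0 => hv ?_, hy⟩
      rw [hx0, hy0, map_zero, add_zero]
    · exact ⟨x, hx0, hx⟩
  let S : V → Submodule (ZMod p) V := fun v =>
    Submodule.span (ZMod p) (Set.range fun q : Q => ρ (q : X) v)
  have hS1 : ∀ (q : Q) (v v' : V), v' ∈ S v → ρ (q : X) v' ∈ S v := by
    intro q v v' hv'
    induction hv' using Submodule.span_induction with
    | mem x hx =>
      obtain ⟨q', rfl⟩ := hx
      exact Submodule.subset_span ⟨q * q', by rw [← Module.End.mul_apply, ← hρQ]⟩
    | zero => rw [map_zero]; exact zero_mem _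
    | add x y _ _ hx hy => rw [map_add]; exact add_mem hx hy
    | smul c x _ hx => rw [map_smul]; exact Submodule.smul_mem _ c hx
  have hSz : ∀ v v' : V, v' ∈ S v → z v' ∈ S v ∧ w v' ∈ S v := fun v v' hv' =>
    ⟨add_mem (Submodule.smul_mem _ α (hS1 qi v v' hv')) (Submodule.smul_mem _ β (hS1 qj v v' hv')),
      hS1 qi v _ (hS1 qj v v' hv')⟩
  have hSself : ∀ v : V, v ∈ S v := fun v => Submodule.subset_span ⟨1, by simp⟩
  -- `S u` is spanned by `u` and `w u`
  set P : Submodule (ZMod p) V := Submodule.span (ZMod p) {u, w u} with hP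
  have huP : u ∈ P := Submodule.subset_span (by simp)
  have hwuP : w u ∈ P := Submodule.subset_span (by simp)
  have hwI : w (I u) = J u := by rw [aw, aJI, map_neg, aII, neg_neg]
  have hwJ : w (J u) = -I u := by rw [aw, aJJ, map_neg]
  have hwu : w u = α • J u - β • I u := by
    have : w u = w (z u) := by rw [hu]
    rw [this, az, map_add, map_smul, map_smul, hwI, hwJ, smul_neg, sub_eq_add_neg]
  have hIu : I u = -(α • u) + β • w u := by
    have e1 : α • u = (α * α) • I u + (α * β) • J u := by
      conv_lhs => rw [← hu, az]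
      rw [smul_add, smul_smul, smul_smul]
    rw [hwu, e1, smul_sub, smul_smul, smul_smul]
    calc I u = -((α * α + β * β) • I u) := by rw [hab, neg_smul, one_smul, neg_neg]
      _ = _ := by module
  have hJu : J u = -(β • u) + -(α • w u) := by
    have e1 : β • u = (β * α) • I u + (β * β) • J u := by
      conv_lhs => rw [← hu, az]
      rw [smul_add, smul_smul, smul_smul]
    rw [hwu, e1, smul_sub, smul_smul, smul_smul]
    calc J u = -((α * α + β * β) • J u) := by rw [hab, neg_smul, one_smul, neg_neg]
      _ = _ := by module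
  have hIP : ∀ v ∈ P, I v ∈ P := by
    intro v hv
    obtain ⟨c, d, rfl⟩ := Submodule.mem_span_pair.1 hv
    have hI2 : I (w u) = -J u := by rw [aw, aII]
    rw [map_add, map_smul, map_smul, hI2, hIu, hJu]
    exact add_mem (Submodule.smul_mem _ _ (add_mem (neg_mem (Submodule.smul_mem _ _ huP))
      (Submodule.smul_mem _ _ hwuP))) (Submodule.smul_mem _ _ (neg_mem (add_mem
        (neg_mem (Submodule.smul_mem _ _ huP)) (neg_mem (Submodule.smul_mem _ _ hwuP)))))
  have hJP : ∀ v ∈ P, J v ∈ P := by
    intro v hv
    obtain ⟨c, d, rfl⟩ := Submodule.mem_span_pair.1 hv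
    have hJ2 : J (w u) = I u := by rw [aw, aJI, aJJ, map_neg, neg_neg]
    rw [map_add, map_smul, map_smul, hJ2, hIu, hJu]
    exact add_mem (Submodule.smul_mem _ _ (add_mem (neg_mem (Submodule.smul_mem _ _ huP))
      (neg_mem (Submodule.smul_mem _ _ hwuP)))) (Submodule.smul_mem _ _ (add_mem
        (neg_mem (Submodule.smul_mem _ _ huP)) (Submodule.smul_mem _ _ hwuP)))
  have hQP : S u ≤ P := by
    rw [Submodule.span_le]
    rintro _ ⟨q, rfl⟩
    show ρ (q : X) u ∈ P
    have hgen : ∀ g : QuaternionGroup 2, ∃ i : Fin 4, ∃ j : Fin 2,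
        g = QuaternionGroup.a 1 ^ (i : ℕ) * QuaternionGroup.xa 0 ^ (j : ℕ) := by decide
    obtain ⟨i, j, hij⟩ := hgen (e q)
    have hq : q = qi ^ (i : ℕ) * qj ^ (j : ℕ) := by
      apply e.injective
      rw [hij, map_mul, map_pow, map_pow, hqi, hqj, MulEquiv.apply_symm_apply,
        MulEquiv.apply_symm_apply]
    rw [hq, hρQ, SubmonoidClass.coe_pow, SubmonoidClass.coe_pow, map_pow, map_pow,
      Module.End.mul_apply]
    have hpow : ∀ (T : Module.End (ZMod p) V), (∀ v ∈ P, T v ∈ P) → ∀ (n : ℕ), ∀ v ∈ P,
        (T ^ n) v ∈ P := by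
      intro T hT n
      induction n with
      | zero => exact fun v hv => by simpa using hv
      | succ n ih =>
        intro v hv
        rw [pow_succ', Module.End.mul_apply]
        exact hT _ (ih v hv)
    exact hpow I hIP i _ (hpow J hJP j u huP)
  -- fixed vectors of `z` form the line of `u`
  have hline : ∀ y : V, z y = y → ∃ c : ZMod p, c • u = y := by
    intro y hy
    set v := u + w y with hv
    have hzv : z v = u - w y := by rw [hv, map_add, hu, hzw, hy, sub_eq_add_neg]
    by_cases hv0 : v = 0
    · exfalso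
      have e2 : z v = 0 := by rw [hv0, map_zero]
      have hsum : v + z v = (2 : ZMod p) • u := by rw [hzv, hv, two_smul]; abel
      rw [e2, hv0, add_zero, eq_comm, smul_eq_zero] at hsum
      exact hu0 (hsum.resolve_left h2)
    obtain ⟨x, hx⟩ := htr u v hu0 hv0
    have hmap : S v ≤ P.map (ρ x) := by
      rw [Submodule.span_le]
      rintro _ ⟨q, rfl⟩
      have hq' : x⁻¹ * (q : X) * x ∈ Q := by
        have := hQ.conj_mem (q : X) q.2 x⁻¹
        rwa [inv_inv] at this
      refine ⟨ρ ((⟨_, hq'⟩ : Q) : X) u, hQP (Submodule.subset_span ⟨⟨_, hq'⟩, rfl⟩), ?_⟩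
      show ρ x (ρ (x⁻¹ * (q : X) * x) u) = ρ (q : X) v
      rw [← hx, ← Module.End.mul_apply, ← Module.End.mul_apply, ← map_mul, ← map_mul]
      congr 2
      group
    -- `u` and `y` lie in `S v`, together with their images under `w`
    have h1 := hSself v
    have huS : u ∈ S v := by
      have e1 : u = (2 : ZMod p)⁻¹ • (v + z v) := by
        rw [hzv, hv, show u + w y + (u - w y) = (2 : ZMod p) • u by rw [two_smul]; abel,
          smul_smul, inv_mul_cancel₀ h2, one_smul]
      exact e1 ▸ Submodule.smul_mem _ _ (add_mem h1 (hSz v v h1).1)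
    have hwyS : w y ∈ S v := by
      have e1 : w y = v - u := by rw [hv, add_sub_cancel_left]
      exact e1 ▸ sub_mem h1 huS
    have hyS : y ∈ S v := by
      have e1 : y = -w (w y) := by rw [hww, neg_neg]
      exact e1 ▸ neg_mem (hSz v _ hwyS).2
    have hwuS : w u ∈ S v := (hSz v u huS).2
    by_contra hno
    push Not at hno
    -- three independent vectors in a plane
    have hinj : Function.Injective (fun c : ZMod p × ZMod p × ZMod p =>
        (⟨c.1 • u + c.2.1 • y + c.2.2 • w u, hmap (add_mem (add_mem (Submodule.smul_mem _ _ huS)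
          (Submodule.smul_mem _ _ hyS)) (Submodule.smul_mem _ _ hwuS))⟩ : P.map (ρ x))) := by
      rintro ⟨a, b, c⟩ ⟨a', b', c'⟩ h
      have h' : a • u + b • y + c • w u = a' • u + b' • y + c' • w u := congrArg Subtype.val h
      have h0 : (a - a') • u + (b - b') • y + (c - c') • w u = 0 := by
        rw [sub_smul, sub_smul, sub_smul]
        calc _ = (a • u + b • y + c • w u) - (a' • u + b' • y + c' • w u) := by abel
          _ = 0 := by rw [h', sub_self]
      have hz0 := congrArg z h0
      rw [map_add, map_add, map_smul, map_smul, map_smul, hu, hy, hzw, hu, map_zero] at hz0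
      have hwu0 : ((2 : ZMod p) * (c - c')) • w u = 0 := by
        calc ((2 : ZMod p) * (c - c')) • w u
            = ((a - a') • u + (b - b') • y + (c - c') • w u)
              - ((a - a') • u + (b - b') • y + (c - c') • (-w u)) := by module
          _ = 0 := by rw [h0, hz0, sub_zero]
      have hwne : w u ≠ 0 := fun e => hu0 (by
        have := congrArg w e
        rwa [hww, map_zero, neg_eq_zero] at this)
      rw [smul_eq_zero] at hwu0
      have hc : c - c' = 0 := by
        rcases hwu0 with h | h
        · exact (mul_eq_zero.1 h).resolve_left h2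
        · exact absurd h hwne
      rw [hc, zero_smul, add_zero] at h0
      have hb : b - b' = 0 := by
        by_contra hbne
        refine hno (-((b - b')⁻¹ * (a - a'))) ?_
        have : (b - b')⁻¹ • ((a - a') • u + (b - b') • y) = 0 := by rw [h0, smul_zero]
        rw [smul_add, smul_smul, smul_smul, inv_mul_cancel₀ hbne, one_smul] at this
        rw [neg_smul, eq_comm, eq_neg_iff_add_eq_zero, add_comm]
        exact this
      rw [hb, zero_smul, add_zero, smul_eq_zero] at h0
      have ha := h0.resolve_right hu0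
      simp [sub_eq_zero.1 ha, sub_eq_zero.1 hb, sub_eq_zero.1 hc]
    have hle := Nat.card_le_card_of_injective _ hinj
    rw [Nat.card_prod, Nat.card_prod, Nat.card_zmod] at hle
    have hsurj : Function.Surjective (fun c : ZMod p × ZMod p =>
        (⟨ρ x (c.1 • u + c.2 • w u), ⟨_, add_mem (Submodule.smul_mem _ _ huP)
          (Submodule.smul_mem _ _ hwuP), rfl⟩⟩ : P.map (ρ x))) := by
      rintro ⟨_, v', hv', rfl⟩
      obtain ⟨c, d, rfl⟩ := Submodule.mem_span_pair.1 hv'
      exact ⟨(c, d), rfl⟩
    have hge := Nat.card_le_card_of_surjective _ hsurj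
    rw [Nat.card_prod, Nat.card_zmod] at hge
    have h3 := hle.trans hge
    have hp2' := hp.two_le
    nlinarith
  refine ⟨?_, ?_⟩
  · rw [← Nat.card_eq_of_bijective (fun c : ZMod p × ZMod p => c.1 • u + c.2 • w u) ⟨?_, ?_⟩,
      Nat.card_prod, Nat.card_zmod, pow_two]
    · rintro ⟨a, b⟩ ⟨a', b'⟩ h
      have h0 : (a - a') • u + (b - b') • w u = 0 := by
        rw [sub_smul, sub_smul]
        calc _ = (a • u + b • w u) - (a' • u + b' • w u) := by abel
          _ = 0 := by rw [show a • u + b • w u = a' • u + b' • w u from h, sub_self]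
      have hz0 := congrArg z h0
      rw [map_add, map_smul, map_smul, hu, hzw, hu, map_zero] at hz0
      have ha : ((2 : ZMod p) * (a - a')) • u = 0 := by
        calc ((2 : ZMod p) * (a - a')) • u = ((a - a') • u + (b - b') • w u)
            + ((a - a') • u + (b - b') • (-w u)) := by module
          _ = 0 := by rw [h0, hz0, add_zero]
      rw [smul_eq_zero] at ha
      have ha' : a - a' = 0 := (mul_eq_zero.1 (ha.resolve_right hu0)).resolve_left h2
      rw [ha', zero_smul, zero_add, smul_eq_zero] at h0
      have hb' : b - b' = 0 := by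
        rcases h0 with h0 | h0
        · exact h0
        · exfalso
          refine hu0 ?_
          have := congrArg w h0
          rwa [hww, map_zero, neg_eq_zero] at this
      simp [sub_eq_zero.1 ha', sub_eq_zero.1 hb']
    · intro v
      obtain ⟨x, y, hx, hy, rfl⟩ := hdec v
      obtain ⟨a, rfl⟩ := hline x hx
      obtain ⟨b, rfl⟩ := hline y hy
      exact ⟨(a, b), by simp⟩
  · let C := Subgroup.centralizer (Q : Set X)
    letI : MulAction C V :=
      { smul := fun c v => ρ (c : X) v
        one_smul := fun v => by show ρ 1 v = v; rw [map_one]; rfl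
        mul_smul := fun c d v => by
          show ρ ((c * d : C) : X) v = ρ (c : X) (ρ (d : X) v)
          rw [Subgroup.coe_mul, map_mul]; rfl }
    haveI : Fintype V := Fintype.ofFinite V
    have hcI : ∀ (c : C) (q : Q) (v : V), ρ (c : X) (ρ (q : X) v) = ρ (q : X) (ρ (c : X) v) :=
      fun c q v => by
        rw [← Module.End.mul_apply, ← Module.End.mul_apply, ← map_mul, ← map_mul,
          Subgroup.mem_centralizer_iff.1 c.2 q q.2]
    let L : Finset V := (Finset.univ.filter fun v => z v = v).erase 0
    have hcard : L.card = p - 1 := by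
      rw [Finset.card_erase_of_mem (by simp)]
      congr 1
      rw [← Fintype.card_subtype, ← Nat.card_eq_fintype_card]
      refine Eq.trans (Nat.card_congr (Equiv.subtypeEquivRight fun v => ⟨fun hv => ?_, fun hv => ?_⟩))
        (card_span_singleton (p := p) hu0)
      · exact Submodule.mem_span_singleton.2 (hline v hv)
      · obtain ⟨c, rfl⟩ := Submodule.mem_span_singleton.1 hv
        rw [map_smul, hu]
    rw [← hcard]
    refine dvd_card_of_orbits (G := C) L (fun c v hv => ?_) fun v hv => dvd_of_eq ?_
    · simp only [L, Finset.mem_erase, Finset.mem_filter, Finset.mem_univ, true_and] at hv ⊢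
      refine ⟨fun h => hv.1 ?_, ?_⟩
      · exact MulAction.injective c (h.trans (map_zero (ρ (c : X))).symm)
      · show z (ρ (c : X) v) = ρ (c : X) v
        conv_rhs => rw [← hv.2, az, map_add, map_smul, map_smul, hI, hJ, hcI c qi, hcI c qj]
        rw [az, hI, hJ]
    · simp only [L, Finset.mem_erase] at hv
      refine Nat.card_eq_of_bijective
        (fun c : C => (⟨c • v, MulAction.mem_orbit v c⟩ : MulAction.orbit C v)) ⟨fun c d h => ?_, ?_⟩
      · have h' : ρ (c : X) v = ρ (d : X) v := congrArg Subtype.val h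
        have := hfpf ((d : X)⁻¹ * (c : X)) v (by
          rw [map_mul, Module.End.mul_apply, h', ← Module.End.mul_apply, ← map_mul, inv_mul_cancel,
            map_one, Module.End.one_apply]) hv.1
        exact Subtype.ext (inv_mul_eq_one.1 this).symm
      · rintro ⟨_, c, rfl⟩
        exact ⟨c, rfl⟩

/-- An additive map of a `ZMod p`-module is linear. -/
noncomputable def addEndToLin [Module (ZMod p) V] : AddMonoid.End V →* Module.End (ZMod p) V where
  toFun f :=
    { toFun := fun v => f v
      map_add' := fun u v => map_add f u v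
      map_smul' := fun c v => ZMod.map_smul f c v }
  map_one' := LinearMap.ext fun _ => rfl
  map_mul' f g := LinearMap.ext fun _ => rfl

/-- `quaternion_plane` for an abelian group of exponent `p`. -/
theorem quaternion_plane_addEnd [Fact p.Prime] [Finite V] [Nontrivial V] (hp2 : p ≠ 2)
    (hexp : ∀ v : V, p • v = 0) (ρ : X →* AddMonoid.End V)
    (hfpf : ∀ x v, ρ x v = v → v ≠ 0 → x = 1)
    (htr : ∀ u v : V, u ≠ 0 → v ≠ 0 → ∃ x, ρ x u = v)
    (Q : Subgroup X) (hQ : Q.Normal) (e : Q ≃* QuaternionGroup 2) :
    Nat.card V = p ^ 2 ∧ Nat.card (Subgroup.centralizer (Q : Set X)) ∣ p - 1 := by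
  letI : Module (ZMod p) V := AddCommGroup.zmodModule hexp
  exact quaternion_plane hp2 (addEndToLin.comp ρ) hfpf htr Q hQ e

end Cfsg.Agent.PermB
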