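import Cfsg.Agent.PermB.Sharp3Odd
import Cfsg.Agent.PermB.ZassElem
import Cfsg.Agent.PermB.IndexTwo
import Cfsg.Agent.PermB.QuaternionPlane
import Mathlib.Algebra.Module.ZMod

/-!
In a sharply triply transitive group of even degree the two point stabiliser has a subgroup of
index two.
-/

set_option autoImplicit false

namespace Cfsg.Agent.PermB.ZData

open MulAction

theorem arith_contra {p c : ℕ} (hp : p.Prime) (hc : c ∣ p - 1) (h3c : 3 ∣ c)
    (hr : ∀ r, r.Prime → 5 ≤ r → r ∣ p ^ 2 - 1 → r ∣ c) (h16 : ¬ 16 ∣ p ^ 2 - 1)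
    (hp2 : p ≠ 2) : False := by
  have hp1 : 3 ∣ p - 1 := h3c.trans hc
  have hpo : p % 2 = 1 := hp.eq_two_or_odd.resolve_left hp2
  have h2p := hp.two_le
  have hsq : p ^ 2 - 1 = (p + 1) * (p - 1) := by
    have := Nat.sq_sub_sq p 1
    rwa [one_pow] at this
  -- `p + 1` is a power of two
  have hpow : ∀ r, r.Prime → r ∣ p + 1 → r = 2 := by
    intro r hr' hrd
    by_contra hr2
    by_cases hr3 : r = 3
    · subst hr3
      obtain ⟨k, hk⟩ := hp1
      obtain ⟨m, hm⟩ := hrd
      omega
    have hr5 : 5 ≤ r := by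
      have := hr'.two_le
      by_contra h
      interval_cases r <;> simp_all (config := { decide := true })
    have h1 : r ∣ p - 1 := (hr r hr' hr5 (hsq ▸ hrd.mul_right _)).trans hc
    obtain ⟨k, hk⟩ := h1
    obtain ⟨m, hm⟩ := hrd
    have h2 : r ∣ 2 := ⟨m - k, by rw [Nat.mul_sub, ← hm, ← hk]; omega⟩
    have := Nat.le_of_dvd (by norm_num) h2
    omega
  have h4 := Nat.eq_prime_pow_of_unique_prime_dvd (n := p + 1) (p := 2) (by omega)
    (fun {d} hd hdd => hpow d hd hdd)
  set a := (p + 1).primeFactorsList.length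
  rcases Nat.lt_or_ge a 3 with ha | ha
  · obtain ⟨k, hk⟩ := hp1
    interval_cases a <;> omega
  · apply h16
    have e1 : 8 ∣ p + 1 := by rw [h4]; exact pow_dvd_pow 2 ha
    have e2 : 2 ∣ p - 1 := by omega
    rw [hsq]
    exact Nat.mul_dvd_mul e1 e2

variable {G α : Type*} [Group G] [MulAction G α]

/-- The two point stabiliser has a subgroup of index two. -/
theorem exists_index_two_H2 [Finite α] [Finite G] (hz : ZData G α) (hcard : 3 ≤ Nat.card α)
    (heven : Even (Nat.card α)) (h : IsMultiplyPretransitive G α 3) {a b : α} (hab : a ≠ b) :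
    ∃ L : Subgroup (H2 (G := G) a b), L.index = 2 := by
  classical
  by_contra hno
  push Not at hno
  have hd := hz.even_H2_of_sharp3 hcard heven h hab
  have hdn := hz.card_H2_of_sharp3 hcard h hab
  obtain ⟨N, hN, -, -, -⟩ := hz.exists_kernel_of_even hab hcard hd
  have hNcard := hN.card_add_one hab.symm
  obtain ⟨hNc, p, f, hp, hexp, hcardp⟩ := hN.elementary hz hab.symm hcard (by omega)
  have hN1 : N ≠ ⊥ := by
    intro h1
    rw [h1, Subgroup.card_bot] at hNcard
    omega
  haveI : Fact p.Prime := ⟨hp⟩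
  set X : Subgroup G := H2 (G := G) a b with hXdef
  have hX : X ≤ Subgroup.normalizer (N : Set G) := by
    intro x hx
    rw [Subgroup.mem_normalizer_iff]
    refine fun u => ⟨fun hu => hN.conj x (mem_H2.1 hx).1 u hu, fun hu => ?_⟩
    have := hN.conj x⁻¹ ((stabilizer G a).inv_mem (mem_H2.1 hx).1) _ hu
    simpa [mul_assoc] using this
  have hfpfG : ∀ x ∈ X, x ≠ 1 → N ⊓ Subgroup.centralizer {x} = ⊥ := by
    intro x hx h1
    rw [Subgroup.eq_bot_iff_forall]
    intro u hu
    by_contra hu1
    refine h1 (hN.eq_one_of_commute hz hab.symm hx hu.1 hu1 ?_)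
    rw [Subgroup.mem_centralizer_iff.1 hu.2 x rfl]
    group
  have hinvol : ∀ u v : X, orderOf u = 2 → orderOf v = 2 → u = v := by
    intro u v hu hv
    rw [← Subgroup.orderOf_coe] at hu hv
    refine Subtype.ext (hz.involution_unique hab hcard hd u.2 ?_ (fun e => ?_) v.2 ?_ (fun e => ?_))
    · rw [← pow_two, ← hu, pow_orderOf_eq_one]
    · rw [e, orderOf_one] at hu; omega
    · rw [← pow_two, ← hv, pow_orderOf_eq_one]
    · rw [e, orderOf_one] at hv; omega
  have hthree : ∀ u v : X, orderOf u = 3 → orderOf v = 3 → v ∈ Subgroup.zpowers u := by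
    intro u v hu hv
    rw [← Subgroup.orderOf_coe] at hu hv
    obtain ⟨k, hk⟩ := Subgroup.mem_zpowers_iff.1
      (hz.mem_zpowers_of_order_three hcard heven h hab u.2 v.2 hu hv)
    exact Subgroup.mem_zpowers_iff.2 ⟨k, Subtype.ext (by rw [Subgroup.coe_zpow]; exact hk)⟩
  have hcyc : ∀ (r : ℕ) [Fact r.Prime] (P : Sylow r X), r ≠ 2 → IsCyclic P := fun r _ P hr =>
    (FrobeniusCompl.sylow_cyclic_or_quaternion hX hN1 hfpfG P).resolve_right fun h' => hr h'.1
  obtain ⟨Q, hQn, ⟨eQ⟩, h16, hcop, z, hz3, hzQ⟩ :=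
    IndexTwo.exists_quaternion (even_iff_two_dvd.1 hd) hinvol hthree hcyc hno
  -- the kernel as a vector space
  letI : CommGroup N := { (inferInstance : Group N) with mul_comm := fun u v => hNc.is_comm.comm u v }
  have hexp' : ∀ v : Additive N, p • v = 0 := fun v => by
    refine Additive.toMul.injective ?_
    rw [toMul_nsmul, toMul_zero]
    exact Subtype.ext (by rw [SubmonoidClass.coe_pow]; exact hexp _ (v.toMul).2)
  let cj : X → N → N := fun x u => ⟨(x : G) * u * (x : G)⁻¹, hN.conj x (mem_H2.1 x.2).1 u u.2⟩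
  let F : X → AddMonoid.End (Additive N) := fun x =>
    MonoidHom.toAdditive (MonoidHom.mk' (cj x) fun u v => Subtype.ext (by simp [cj, mul_assoc]))
  let ρ : X →* AddMonoid.End (Additive N) :=
    { toFun := F
      map_one' := by
        refine AddMonoidHom.ext fun u => ?_
        show Additive.ofMul (cj 1 u.toMul) = u
        refine Additive.toMul.injective (Subtype.ext ?_)
        simp [cj]
      map_mul' := fun x y => by
        refine AddMonoidHom.ext fun u => ?_
        show Additive.ofMul (cj (x * y) u.toMul) = Additive.ofMul (cj x (cj y u.toMul))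
        refine Additive.toMul.injective (Subtype.ext ?_)
        simp [cj, mul_assoc] }
  have hρ : ∀ (x : X) (v : (Additive N)), (((ρ x v).toMul : N) : G) = (x : G) * (v.toMul : G) * (x : G)⁻¹ :=
    fun x v => rfl
  haveI : Finite (Additive N) := inferInstanceAs (Finite N)
  haveI : Nontrivial (Additive N) := by
    obtain ⟨u, hu, hu1⟩ := (Subgroup.bot_or_exists_ne_one N).resolve_left hN1
    exact ⟨⟨Additive.ofMul ⟨u, hu⟩, 0, fun e =>
      hu1 (congrArg (fun w : (Additive N) => ((w.toMul : N) : G)) e)⟩⟩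
  have hfpf : ∀ (x : X) (v : (Additive N)), ρ x v = v → v ≠ 0 → x = 1 := by
    intro x v hxv hv
    refine Subtype.ext (hN.eq_one_of_commute hz hab.symm x.2 v.toMul.2 (fun e => hv ?_) ?_)
    · exact Additive.toMul.injective (Subtype.ext e)
    · rw [← hρ, hxv]
  have hmul : ∀ (x y : X) (v : Additive N), ρ (x * y) v = ρ x (ρ y v) := fun x y v => by
    rw [map_mul]; rfl
  have hone : ∀ v : Additive N, ρ 1 v = v := fun v => by rw [map_one]; rfl
  have htr : ∀ u v : (Additive N), u ≠ 0 → v ≠ 0 → ∃ x, ρ x u = v := by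
    intro u v hu hv
    haveI : Fintype (Additive N) := Fintype.ofFinite (Additive N)
    let φ : X → {w : (Additive N) // w ≠ 0} := fun x => ⟨ρ x u, fun e => hu (by
      have := congrArg (ρ x⁻¹) e
      rwa [← hmul, inv_mul_cancel, hone, map_zero] at this)⟩
    have hinj : Function.Injective φ := fun x y e => by
      have e' : ρ x u = ρ y u := congrArg Subtype.val e
      refine (inv_mul_eq_one.1 (hfpf (y⁻¹ * x) u ?_ hu)).symm
      rw [hmul, e', ← hmul, inv_mul_cancel, hone]
    have hbij : Function.Bijective φ := by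
      rw [Nat.bijective_iff_injective_and_card]
      refine ⟨hinj, ?_⟩
      have e1 : Nat.card (Additive N) = Nat.card N := rfl
      rw [Nat.card_eq_fintype_card (α := {w : (Additive N) // w ≠ 0}), Fintype.card_subtype_compl,
        Fintype.card_subtype_eq, ← Nat.card_eq_fintype_card, e1]
      show Nat.card X = Nat.card N - 1
      omega
    obtain ⟨x, hx⟩ := hbij.2 ⟨v, hv⟩
    exact ⟨x, congrArg Subtype.val hx⟩
  have hp2 : p ≠ 2 := by
    rintro rfl
    rw [hcardp, Nat.even_iff] at heven
    rcases Nat.eq_zero_or_pos f with h0 | h0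
    · subst h0
      rw [hcardp] at hcard
      omega
    · have : 2 ^ f % 2 = 0 := by rw [Nat.pow_mod]; simp [Nat.zero_pow h0]
      omega
  obtain ⟨hV, hC⟩ := quaternion_plane_addEnd hp2 hexp' ρ hfpf htr Q hQn eQ
  have hXcard : Nat.card X = p ^ 2 - 1 := by
    have e1 : Nat.card (Additive N) = Nat.card N := rfl
    rw [hV] at e1
    show Nat.card X = _
    omega
  refine arith_contra hp hC ?_ (fun r hr hr5 hrd => ?_) (hXcard ▸ h16) hp2
  · rw [← hz3, ← Subgroup.orderOf_mk z hzQ]
    exact orderOf_dvd_natCard _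
  · haveI : Fact r.Prime := ⟨hr⟩
    obtain ⟨x, hx⟩ := exists_prime_orderOf_dvd_card' (G := X) r (hXcard ▸ hrd)
    have hxC := hcop x (by
      rw [hx, show (6 : ℕ) = 2 * 3 from rfl, Nat.coprime_mul_iff_right,
        Nat.coprime_primes hr Nat.prime_two, Nat.coprime_primes hr Nat.prime_three]
      omega)
    rw [← hx, ← Subgroup.orderOf_mk x hxC]
    exact orderOf_dvd_natCard _

end Cfsg.Agent.PermB.ZData
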