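import Cfsg.Agent.PermB.ZassFrobenius
import Cfsg.Agent.PermB.Recognition
import Cfsg.Agent.PermB.Sharp3
import Cfsg.Agent.Lib.FrobeniusComplement
import Cfsg.Agent.Transfer.Frobenius
import Mathlib.GroupTheory.SpecificGroups.ZGroup
import Mathlib.RingTheory.Int.Basic

/-! Zassenhaus groups with two point stabiliser of odd order. -/

set_option autoImplicit false

namespace Cfsg.Agent.PermB

open MulAction

/-- An involutory nontrivial automorphism of a cyclic group of odd prime power order inverts. -/
theorem inverts_of_involutive {Q : Type*} [Group Q] [Finite Q] [IsCyclic Q] {q k : ℕ}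
    (hq : q.Prime) (hq2 : q ≠ 2) (hQ : Nat.card Q = q ^ k) (τ : Q ≃* Q) (hτ : ∀ x, τ (τ x) = x)
    (hne : ∃ x, τ x ≠ x) (y : Q) : τ y = y⁻¹ := by
  obtain ⟨g, hg⟩ := IsCyclic.exists_generator (α := Q)
  have hord : orderOf g = q ^ k := by rw [orderOf_eq_card_of_forall_mem_zpowers hg, hQ]
  obtain ⟨r, hr⟩ := Subgroup.mem_zpowers_iff.1 (hg (τ g))
  have hrr : ((q ^ k : ℕ) : ℤ) ∣ (r - 1) * (r + 1) := by
    rw [← hord, orderOf_dvd_iff_zpow_eq_one, show (r - 1) * (r + 1) = r * r - 1 by ring, zpow_sub,
      zpow_mul, hr, ← map_zpow, hr, hτ, zpow_one, mul_inv_cancel]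
  obtain ⟨i, rfl⟩ := Subgroup.mem_zpowers_iff.1 (hg y)
  rw [map_zpow, ← hr, ← inv_zpow]
  congr 1
  by_cases h1 : (q : ℤ) ∣ r + 1
  · have h2 : ¬ (q : ℤ) ∣ r - 1 := fun h2 => by
      have h3 : (q : ℤ) ∣ (2 : ℕ) := by
        have := dvd_sub h1 h2
        rwa [show r + 1 - (r - 1) = ((2 : ℕ) : ℤ) by push_cast; ring] at this
      exact hq2 ((Nat.prime_dvd_prime_iff_eq hq Nat.prime_two).1 (by exact_mod_cast h3))
    have h4 : ((q ^ k : ℕ) : ℤ) ∣ r + 1 := by
      push_cast at hrr ⊢
      exact (Nat.prime_iff_prime_int.1 hq).pow_dvd_of_dvd_mul_left k h2 hrr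
    rw [← hord, orderOf_dvd_iff_zpow_eq_one, zpow_add, zpow_one] at h4
    exact eq_inv_of_mul_eq_one_left h4
  · exfalso
    obtain ⟨x, hx⟩ := hne
    have h4 : ((q ^ k : ℕ) : ℤ) ∣ r - 1 := by
      push_cast at hrr ⊢
      exact (Nat.prime_iff_prime_int.1 hq).pow_dvd_of_dvd_mul_right k h1 hrr
    rw [← hord, orderOf_dvd_iff_zpow_eq_one, zpow_sub, zpow_one, mul_inv_eq_one, hr] at h4
    obtain ⟨j, rfl⟩ := Subgroup.mem_zpowers_iff.1 (hg x)
    exact hx (by rw [map_zpow, h4])

namespace ZData

variable {G α : Type*} [Group G] [MulAction G α]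

open IsMulCommutative in
/-- Without normal complements for the primes dividing its odd order, the two point stabiliser is
cyclic and inverted by all swappers. -/
theorem odd_H2_cyclic [Finite α] [Finite G] (hz : ZData G α) (hcard : 3 ≤ Nat.card α) {a b : α}
    (hab : a ≠ b) (hodd : Odd (Nat.card (H2 (G := G) a b)))
    (hnil : ∀ q : ℕ, q.Prime → q ∣ Nat.card (H2 (G := G) a b) →
      ¬ Cfsg.HasNormalPComplement q G) :
    IsCyclic (H2 (G := G) a b) ∧
      ∀ s : G, s • a = b → s • b = a → ∀ h ∈ H2 (G := G) a b, s * h * s⁻¹ = h⁻¹ := by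
  classical
  haveI : Fintype G := Fintype.ofFinite G
  set H : Subgroup G := H2 (G := G) a b with hHdef
  obtain ⟨N, hN⟩ := hz.exists_kernel hab
  have hNcard := hN.card_add_one hab.symm
  have hN1 : N ≠ ⊥ := by
    intro h1
    rw [h1, Subgroup.card_bot] at hNcard
    omega
  have hHN : H ≤ Subgroup.normalizer (N : Set G) := by
    intro x hx
    rw [Subgroup.mem_normalizer_iff]
    refine fun u => ⟨fun hu => hN.conj x (mem_H2.1 hx).1 u hu, fun hu => ?_⟩
    have := hN.conj x⁻¹ ((stabilizer G a).inv_mem (mem_H2.1 hx).1) _ hu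
    simpa [mul_assoc] using this
  have hfpf : ∀ x ∈ H, x ≠ 1 → N ⊓ Subgroup.centralizer {x} = ⊥ := by
    intro x hx h1
    rw [Subgroup.eq_bot_iff_forall]
    intro u hu
    by_contra hu1
    refine h1 (hN.eq_one_of_commute hz hab.symm hx hu.1 hu1 ?_)
    rw [Subgroup.mem_centralizer_iff.1 hu.2 x rfl]
    group
  have h2d : ∀ q : ℕ, q.Prime → q ∣ Nat.card H → q ≠ 2 := by
    rintro q - hqd rfl
    exact Nat.not_even_iff_odd.2 hodd (even_iff_two_dvd.2 hqd)
  haveI : IsZGroup H := ⟨fun q hq P => by
    haveI := Fact.mk hq
    by_cases hP : Nat.card P = 1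
    · haveI := (Nat.card_eq_one_iff_unique.1 hP).1
      infer_instance
    refine (FrobeniusCompl.sylow_cyclic_or_quaternion hHN hN1 hfpf P).resolve_right fun h' => ?_
    obtain ⟨k, hk⟩ := P.2.exists_card_eq
    refine h2d q hq ?_ h'.1
    have hk0 : k ≠ 0 := fun e => hP (by rw [hk, e, pow_zero])
    exact (dvd_pow_self q hk0).trans (hk ▸ Subgroup.card_subgroup_dvd_card _)⟩
  -- the order of `H` is prime to its index
  have hd2 : Nat.card H ∣ Nat.card α - 2 := by
    have h := hN.dvd_card_invariant hz hab.symm ((Finset.univ.filter fun u => u ∈ N).erase 1)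
      (fun u hu => by simpa [and_comm] using hu)
      (fun x hx u hu => by
        simp only [Finset.mem_erase, Finset.mem_filter, Finset.mem_univ, true_and] at hu ⊢
        refine ⟨fun e => hu.1 ?_, hN.conj x (mem_H2.1 hx).1 u hu.2⟩
        rw [show u = x⁻¹ * (x * u * x⁻¹) * x by group, e]; group)
    rwa [Finset.card_erase_of_mem (by simp), ← Fintype.card_subtype, ← Nat.card_eq_fintype_card,
      show Nat.card {u // u ∈ N} - 1 = Nat.card α - 2 by omega] at h
  have hcop : ∀ q : ℕ, q.Prime → q ∣ Nat.card H →
      ¬ q ∣ Nat.card α * (Nat.card α - 1) := by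
    intro q hq hqd hdvd
    have h2 : q ∣ Nat.card α - 2 := hqd.trans hd2
    have h3 : q ∣ 2 := by
      rcases hq.dvd_mul.1 hdvd with h | h
      · have := Nat.dvd_sub h h2
        rwa [show Nat.card α - (Nat.card α - 2) = 2 by omega] at this
      · have := Nat.dvd_sub h h2
        rw [show Nat.card α - 1 - (Nat.card α - 2) = 1 by omega] at this
        exact this.trans (one_dvd 2)
    exact h2d q hq hqd ((Nat.prime_dvd_prime_iff_eq hq Nat.prime_two).1 h3)
  let A := Abelianization H
  let π : H →* A := Abelianization.of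
  have hker : ∀ x : H, π x = 1 ↔ x ∈ commutator H := fun x => by
    rw [← Abelianization.ker_of H]; rfl
  -- a swapper inverts the abelianization
  have habel : ∀ (s : G) (hsa : s • a = b) (hsb : s • b = a) (x : H),
      π ⟨s * x * s⁻¹, swap_conj_mem hsa hsb x.2⟩ * π x = 1 := by
    intro s hsa hsb
    let σ : H →* H :=
      { toFun := fun x => ⟨s * x * s⁻¹, swap_conj_mem hsa hsb x.2⟩
        map_one' := Subtype.ext (by simp)
        map_mul' := fun x y => Subtype.ext (by simp [mul_assoc]) }
    let M : Subgroup H :=
      { carrier := {x | π (σ x) * π x = 1}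
        one_mem' := by
          show π (σ 1) * π 1 = 1
          rw [map_one σ, map_one π, one_mul]
        mul_mem' := fun {x y} (hx : π (σ x) * π x = 1) (hy : π (σ y) * π y = 1) => by
          show π (σ (x * y)) * π (x * y) = 1
          rw [map_mul σ, map_mul π, map_mul π, mul_mul_mul_comm, hx, hy, one_mul]
        inv_mem' := fun {x} (hx : π (σ x) * π x = 1) => by
          show π (σ x⁻¹) * π x⁻¹ = 1
          rw [map_inv σ, map_inv π, map_inv π, ← mul_inv, hx, inv_one] }
    suffices hM : M = ⊤ from fun x => (hM ▸ Subgroup.mem_top x : x ∈ M)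
    have hsyl : ∀ q : ℕ, q.Prime → q ∣ Nat.card H →
        ∃ Q : Sylow q H, (Q : Subgroup H) ≤ M := by
      intro q hq hqd
      haveI := Fact.mk hq
      obtain ⟨Q⟩ : Nonempty (Sylow q H) := inferInstance
      refine ⟨Q, ?_⟩
      rcases Sylow.normalizer_le_centralizer_or_le_commutator Q with hA | hB
      · -- a `G`-element normalising `Q` swaps the two points
        let Qg : Subgroup G := (Q : Subgroup H).map H.subtype
        have hQgcard : Nat.card Qg = Nat.card Q :=
          Subgroup.card_map_of_injective H.subtype_injective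
        have hfact : (Nat.card G).factorization q = (Nat.card H).factorization q := by
          have hne : Nat.card α * (Nat.card α - 1) ≠ 0 := by
            have : 0 < Nat.card α * (Nat.card α - 1) := Nat.mul_pos (by omega) (by omega)
            omega
          rw [hz.card_group hab, ← mul_assoc, ← hHdef, Nat.factorization_mul hne Nat.card_pos.ne',
            Finsupp.add_apply, Nat.factorization_eq_zero_of_not_dvd (hcop q hq hqd), zero_add]
        let P : Sylow q G := Sylow.ofCard Qg
          (by rw [hQgcard, Q.card_eq_multiplicity, hfact])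
        have hP : (P : Subgroup G) = Qg := Sylow.coe_ofCard _ _
        have hnle : ¬ Subgroup.normalizer ((P : Subgroup G) : Set G) ≤
            Subgroup.centralizer ((P : Subgroup G) : Set G) := fun hle =>
          hnil q hq hqd (Transfer.hasNormalPComplement_of_normalizer_le_centralizer P hle)
        rw [hP] at hnle
        obtain ⟨g, hgN, hgC⟩ := SetLike.not_le_iff_exists.1 hnle
        -- elements of `H` normalising `Q` centralise it
        have hHnorm : ∀ w ∈ H, w ∈ Subgroup.normalizer (Qg : Set G) →
            ∀ x ∈ Qg, w * x * w⁻¹ = x := by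
          rintro w hw hwN _ ⟨x, hx, rfl⟩
          have h1 : (⟨w, hw⟩ : H) ∈ Subgroup.normalizer ((Q : Subgroup H) : Set H) := by
            rw [Subgroup.mem_normalizer_iff]
            intro y
            have h2 := Subgroup.mem_normalizer_iff.1 hwN (y : G)
            simp only [Qg] at h2
            rw [show w * (y : G) * w⁻¹ = H.subtype (⟨w, hw⟩ * y * (⟨w, hw⟩ : H)⁻¹) from rfl,
              Subgroup.mem_map_iff_mem H.subtype_injective,
              show (y : G) = H.subtype y from rfl,
              Subgroup.mem_map_iff_mem H.subtype_injective] at h2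
            exact h2
          have h3 := Subgroup.mem_centralizer_iff.1 (hA h1) x hx
          have h4 : (x : G) * w = w * x := congrArg Subtype.val h3
          show w * (x : G) * w⁻¹ = x
          rw [← h4, mul_inv_cancel_right]
        -- a nontrivial element of `Q` and its fixed points
        obtain ⟨z, hzQ, hz1⟩ : ∃ z ∈ Qg, z ≠ 1 := by
          refine (Subgroup.bot_or_exists_ne_one Qg).resolve_left fun hbot => ?_
          have h := hQgcard
          rw [hbot, Subgroup.card_bot, Q.card_eq_multiplicity] at h
          have hpos : 0 < (Nat.card H).factorization q :=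
            hq.factorization_pos_of_dvd Nat.card_pos.ne' hqd
          have := Nat.le_self_pow hpos.ne' q
          have := hq.two_le
          omega
        have hQH : Qg ≤ H := Subgroup.map_subtype_le _
        have hfix : ∀ y, z • y = y → y = a ∨ y = b := by
          intro y hy
          by_contra hne
          push Not at hne
          exact hz1 (hz.three z hab hne.2.symm hne.1.symm (mem_H2.1 (hQH hzQ)).1
            (mem_H2.1 (hQH hzQ)).2 hy)
        have hzg : g⁻¹ * z * g ∈ Qg := by
          have := (Subgroup.mem_normalizer_iff.1 (Subgroup.inv_mem _ hgN) z).1 hzQ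
          rwa [inv_inv] at this
        have hgab : ∀ y, y = a ∨ y = b → g • y = a ∨ g • y = b := by
          intro y hy
          refine hfix _ ?_
          have h1 : (g⁻¹ * z * g) • y = y := by
            rcases hy with rfl | rfl
            · exact (mem_H2.1 (hQH hzg)).1
            · exact (mem_H2.1 (hQH hzg)).2
          rw [mul_smul, mul_smul, inv_smul_eq_iff] at h1
          exact h1
        have hgH : g ∉ H := fun hg => hgC (by
          rw [Subgroup.mem_centralizer_iff]
          intro x hx
          calc x * g = (g * x * g⁻¹) * g := by rw [hHnorm g hg hgN x hx]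
            _ = g * x := by group)
        have hga : g • a = b := by
          rcases hgab a (Or.inl rfl) with h | h
          · exfalso
            rcases hgab b (Or.inr rfl) with h' | h'
            · exact hab (MulAction.injective g (h.trans h'.symm))
            · exact hgH (mem_H2.2 ⟨h, h'⟩)
          · exact h
        have hgb : g • b = a := by
          rcases hgab b (Or.inr rfl) with h | h
          · exact h
          · exact absurd (MulAction.injective g (hga.trans h.symm)) hab
        -- `g` inverts `Q`
        have hgg : ∀ x ∈ Qg, g * (g * x * g⁻¹) * g⁻¹ = x := fun x hx => by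
          have := hHnorm _ (sq_mem_H2 hga hgb) (Subgroup.mul_mem _ hgN hgN) x hx
          rw [show g * (g * x * g⁻¹) * g⁻¹ = g * g * x * (g * g)⁻¹ by group]
          exact this
        have hgx : ∀ x ∈ Qg, g * x * g⁻¹ ∈ Qg := fun x hx =>
          (Subgroup.mem_normalizer_iff.1 hgN x).1 hx
        let τ : Qg ≃* Qg :=
          { toFun := fun x => ⟨g * x * g⁻¹, hgx x x.2⟩
            invFun := fun x => ⟨g * x * g⁻¹, hgx x x.2⟩
            left_inv := fun x => Subtype.ext (hgg x x.2)
            right_inv := fun x => Subtype.ext (hgg x x.2)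
            map_mul' := fun x y => Subtype.ext (by simp [mul_assoc]) }
        haveI : IsCyclic Qg :=
          isCyclic_of_surjective _
            ((Q : Subgroup H).equivMapOfInjective H.subtype H.subtype_injective).surjective
        have hinv := inverts_of_involutive hq (h2d q hq hqd)
          (hQgcard.trans Q.card_eq_multiplicity) τ (fun x => Subtype.ext (hgg x x.2)) (by
            by_contra hall
            push Not at hall
            refine hgC (Subgroup.mem_centralizer_iff.2 fun x hx => ?_)
            have h1 : g * x * g⁻¹ = x := congrArg Subtype.val (hall ⟨x, hx⟩)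
            calc x * g = (g * x * g⁻¹) * g := by rw [h1]
              _ = g * x := by group)
        intro x hx
        -- `s = g * k`
        have hk : g⁻¹ * s ∈ H := mem_H2.2
          ⟨by rw [mul_smul, hsa, inv_smul_eq_iff, hga], by rw [mul_smul, hsb, inv_smul_eq_iff, hgb]⟩
        let σg : H →* H :=
          { toFun := fun y => ⟨g * y * g⁻¹, swap_conj_mem hga hgb y.2⟩
            map_one' := Subtype.ext (by simp)
            map_mul' := fun y w => Subtype.ext (by simp [mul_assoc]) }
        let k : H := ⟨g⁻¹ * s, hk⟩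
        have e1 : σ x = σg k * σg x * (σg k)⁻¹ := by
          refine Subtype.ext ?_
          show s * (x : G) * s⁻¹ = (g * (g⁻¹ * s) * g⁻¹) * (g * x * g⁻¹) * (g * (g⁻¹ * s) * g⁻¹)⁻¹
          group
        have h5 : g * (x : G) * g⁻¹ = (x : G)⁻¹ :=
          congrArg Subtype.val (hinv ⟨(x : G), ⟨x, hx, rfl⟩⟩)
        have e2 : σg x = x⁻¹ := Subtype.ext h5
        show π (σ x) * π x = 1
        rw [e1, map_mul π, map_mul π, map_inv π, e2, map_inv π,
          mul_comm (π (σg k)) (π x)⁻¹, mul_inv_cancel_right, inv_mul_cancel]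
      · intro x hx
        have hxc := hB hx
        have hle : (commutator H).map σ ≤ commutator H := by
          rw [commutator_def, Subgroup.map_commutator]
          exact Subgroup.commutator_mono le_top le_top
        have hσ : σ x ∈ commutator H := hle ⟨x, hxc, rfl⟩
        show π (σ x) * π x = 1
        rw [(hker _).2 hσ, (hker _).2 hxc, one_mul]
    refine Subgroup.eq_top_of_card_eq M
      (Nat.dvd_antisymm (Subgroup.card_subgroup_dvd_card M) ?_)
    refine (Nat.factorization_prime_le_iff_dvd Nat.card_pos.ne' Nat.card_pos.ne').1 fun q hq => ?_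
    by_cases hqd : q ∣ Nat.card H
    · obtain ⟨Q, hQ⟩ := hsyl q hq hqd
      haveI := Fact.mk hq
      have h1 := Subgroup.card_dvd_of_le hQ
      rw [Q.card_eq_multiplicity] at h1
      exact (hq.pow_dvd_iff_le_factorization Nat.card_pos.ne').1 h1
    · rw [Nat.factorization_eq_zero_of_not_dvd hqd]
      exact Nat.zero_le _
  -- the derived group is central, so `H` is commutative
  obtain ⟨s₀, -, hs₀a, hs₀b⟩ := hz.exists_involution_swap hab
  haveI := IsZGroup.isCyclic_commutator H
  have hcent : commutator H ≤ Subgroup.center H := by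
    intro c hc
    rw [Subgroup.mem_center_iff]
    intro x
    let ρ : H →* MulAut (commutator H) := MulAut.conjNormal
    let y : H := ⟨s₀ * x * s₀⁻¹, swap_conj_mem hs₀a hs₀b x.2⟩
    let θ : H ≃* H :=
      { toFun := fun w => ⟨s₀ * w * s₀⁻¹, swap_conj_mem hs₀a hs₀b w.2⟩
        invFun := fun w => ⟨s₀⁻¹ * w * s₀, by
          have := swap_conj_mem (s := s₀⁻¹) (inv_smul_eq_iff.2 hs₀b.symm)
            (inv_smul_eq_iff.2 hs₀a.symm) w.2
          rwa [inv_inv] at this⟩
        left_inv := fun w => Subtype.ext (by simp [mul_assoc])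
        right_inv := fun w => Subtype.ext (by simp [mul_assoc])
        map_mul' := fun v w => Subtype.ext (by simp [mul_assoc]) }
    have hle : (commutator H).map θ.toMonoidHom ≤ commutator H := by
      rw [commutator_def, Subgroup.map_commutator]
      exact Subgroup.commutator_mono le_top le_top
    have hθ : ∀ w ∈ commutator H, θ w ∈ commutator H := fun w hw => hle ⟨w, hw, rfl⟩
    let θ' : commutator H →* commutator H :=
      (θ.toMonoidHom.comp (commutator H).subtype).codRestrict _ fun w => hθ w w.2
    -- `θ'` is a power map, so it commutes with conjugation by `x`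
    obtain ⟨gen, hgen⟩ := IsCyclic.exists_generator (α := commutator H)
    obtain ⟨r, hr⟩ := Subgroup.mem_zpowers_iff.1 (hgen (θ' gen))
    obtain ⟨t, ht⟩ := Subgroup.mem_zpowers_iff.1 (hgen (ρ x gen))
    have hρy : ρ y = ρ x := by
      refine MulEquiv.ext fun w => ?_
      have hsurj : Function.Surjective θ' := Finite.injective_iff_surjective.1 fun v w e =>
        Subtype.ext (θ.injective (congrArg Subtype.val e))
      obtain ⟨v, rfl⟩ := hsurj w
      have e1 : ρ y (θ' v) = θ' (ρ x v) := by
        refine Subtype.ext ?_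
        simp only [ρ, MulAut.conjNormal_apply]
        show y * θ (v : H) * y⁻¹ = θ ((ρ x v : commutator H) : H)
        simp only [ρ, MulAut.conjNormal_apply]
        rw [map_mul, map_mul, map_inv]
        rfl
      rw [e1]
      obtain ⟨i, rfl⟩ := Subgroup.mem_zpowers_iff.1 (hgen v)
      simp only [map_zpow, ← ht, ← hr, ← zpow_mul]
      rw [mul_left_comm]
    have hyx : ρ (y * x) = 1 := by
      have hmem : y * x ∈ commutator H := (hker _).1 (by
        rw [map_mul π]; exact habel s₀ hs₀a hs₀b x)
      refine MulEquiv.ext fun w => Subtype.ext ?_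
      have hc' := congrArg Subtype.val
        (IsMulCommutative.is_comm.comm (⟨y * x, hmem⟩ : commutator H) w)
      simp only [Subgroup.coe_mul] at hc'
      simp only [ρ, MulAut.conjNormal_apply, MulAut.one_apply]
      rw [hc', mul_inv_cancel_right]
    have hx2 : ρ x ^ 2 = 1 := by rw [pow_two, ← hyx, map_mul, hρy]
    have h1 : ρ x = 1 := by
      have ho1 : orderOf (ρ x) ∣ 2 := orderOf_dvd_of_pow_eq_one hx2
      have ho2 : orderOf (ρ x) ∣ Nat.card H :=
        (orderOf_map_dvd ρ x).trans (orderOf_dvd_natCard x)
      have hco : Nat.Coprime 2 (Nat.card H) := Nat.coprime_two_left.2 hodd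
      exact orderOf_eq_one_iff.1 (Nat.eq_one_of_dvd_coprimes hco ho1 ho2)
    have h2 := congrArg Subtype.val (DFunLike.congr_fun h1 ⟨c, hc⟩)
    simp only [ρ, MulAut.conjNormal_apply, MulAut.one_apply] at h2
    exact mul_inv_eq_iff_eq_mul.1 h2
  have hcomm : IsMulCommutative H :=
    π.isMulCommutative_of_isCyclic_of_ker_le_center (by
      rw [show π = Abelianization.of from rfl, Abelianization.ker_of]; exact hcent)
  have hnilp : Group.IsNilpotent H :=
    Subgroup.isNilpotent_of_ker_le_center π (by
      rw [show π = Abelianization.of from rfl, Abelianization.ker_of]; exact hcent)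
  refine ⟨inferInstance, fun s hsa hsb h hh => ?_⟩
  have e := habel s hsa hsb ⟨h, hh⟩
  rw [← map_mul π, hker, commutator_def, show (⁅(⊤ : Subgroup H), ⊤⁆) = ⊥ by
    rw [Subgroup.commutator_eq_bot_iff_le_centralizer]
    intro u _
    exact Subgroup.mem_centralizer_iff.2 fun v _ => hcomm.is_comm.comm v u, Subgroup.mem_bot] at e
  exact eq_inv_of_mul_eq_one_left (congrArg Subtype.val e)

end ZData

end Cfsg.Agent.PermB
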