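import Mathlib.GroupTheory.Subgroup.Simple
import Mathlib.GroupTheory.GroupAction.ConjAct
import Mathlib.Algebra.Group.Pi.Lemmas
import Mathlib.Algebra.Group.Fin.Tuple
import Mathlib.Algebra.Group.TransferInstance
import Mathlib.Data.Fintype.EquivFin
import Mathlib.SetTheory.Cardinal.Finite
import Mathlib.SetTheory.Cardinal.NatCard
import Mathlib.GroupTheory.NoncommCoprod
import Mathlib.Algebra.Group.Subgroup.Pointwise
import Mathlib.Tactic.Group

/-! A minimal normal subgroup of a finite group is a power of a simple group. -/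

set_option autoImplicit false

namespace Cfsg.Agent.PermB

universe u

variable {H : Type u} [Group H]

/-- A finite group is isomorphic to a group on a type in universe zero. -/
theorem exists_small_group (S : Type u) [Group S] [Finite S] :
    ∃ (T : Type) (_ : Group T) (_ : Finite T), Nonempty (S ≃* T) := by
  obtain ⟨n, ⟨e⟩⟩ := Finite.exists_equiv_fin S
  let e' : {i : Fin n // True} ≃ S := (Equiv.subtypeUnivEquiv fun _ => trivial).trans e.symm
  letI := e'.group
  exact ⟨{i : Fin n // True}, e'.group, inferInstance, ⟨(Equiv.mulEquiv e').symm⟩⟩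

/-- `N` is a power of a simple group. -/
theorem exists_mulEquiv_pi_simple [Finite H] (N : Subgroup H) [N.Normal] (hN : N ≠ ⊥)
    (hmin : ∀ M : Subgroup H, M.Normal → M ≤ N → M = ⊥ ∨ M = N) :
    ∃ (T : Type) (_ : Group T) (_ : Finite T) (m : ℕ),
      IsSimpleGroup T ∧ 0 < m ∧ Nonempty (N ≃* (Fin m → T)) := by
  classical
  -- a minimal normal subgroup `S` of `N`
  have hne : {M : Subgroup N | M.Normal ∧ M ≠ ⊥}.Nonempty := by
    refine ⟨⊤, inferInstance, fun h => hN ?_⟩
    rw [Subgroup.eq_bot_iff_forall]
    intro x hx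
    have : (⟨x, hx⟩ : N) ∈ (⊥ : Subgroup N) := h ▸ Subgroup.mem_top _
    simpa using congrArg Subtype.val this
  haveI : Finite (Subgroup N) := Finite.of_injective (fun K : Subgroup N => (K : Set N)) SetLike.coe_injective
  obtain ⟨S, ⟨hSn, hSne⟩, hSmin⟩ := (Set.toFinite _).exists_minimal hne
  haveI := hSn
  have hSmin' : ∀ M : Subgroup N, M.Normal → M ≤ S → M = ⊥ ∨ M = S := fun M h1 h2 => by
    by_cases h : M = ⊥
    · exact Or.inl h
    · exact Or.inr (le_antisymm h2 (hSmin ⟨h1, h⟩ h2))
  let c : H → (N ≃* N) := fun h => MulAut.conjNormal h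
  let C : H → Subgroup N := fun h => S.map (c h).toMonoidHom
  have hCn : ∀ h, (C h).Normal := fun h => hSn.map _ (c h).surjective
  have hCmin : ∀ h (M : Subgroup N), M.Normal → M ≤ C h → M = ⊥ ∨ M = C h := by
    intro h M hM hle
    have h1 : M.comap (c h).toMonoidHom ≤ S := by
      intro x hx
      obtain ⟨y, hy, hyx⟩ := hle (show (c h).toMonoidHom x ∈ M from hx)
      rwa [← (c h).injective hyx]
    rcases hSmin' _ (hM.comap _) h1 with e | e
    · left
      rw [← Subgroup.map_comap_eq_self_of_surjective (f := (c h).toMonoidHom) (c h).surjective M,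
        e, Subgroup.map_bot]
    · right
      rw [← Subgroup.map_comap_eq_self_of_surjective (f := (c h).toMonoidHom) (c h).surjective M, e]
  -- the conjugates of `S` generate `N`
  have hgen : (⨆ h, C h) = ⊤ := by
    set U : Subgroup N := ⨆ h, C h with hU
    have hinv : ∀ g x, x ∈ U → c g x ∈ U := by
      intro g x hx
      refine Subgroup.iSup_induction C (C := fun x => c g x ∈ U) hx ?_ ?_ ?_
      · rintro h _ ⟨y, hy, rfl⟩
        refine Subgroup.mem_iSup_of_mem (g * h) ⟨y, hy, ?_⟩
        apply Subtype.ext
        simp [c, MulAut.conjNormal_apply, mul_assoc]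
      · simp
      · intro a b ha hb
        rw [map_mul]; exact U.mul_mem ha hb
    haveI : (U.map N.subtype).Normal := by
      refine ⟨?_⟩
      rintro _ ⟨x, hx, rfl⟩ g
      exact ⟨c g x, hinv g x hx, by simp [c, MulAut.conjNormal_apply]⟩
    rcases hmin (U.map N.subtype) inferInstance (Subgroup.map_subtype_le U) with h | h
    · exfalso
      rw [Subgroup.map_eq_bot_iff_of_injective _ N.subtype_injective] at h
      apply hSne
      rw [eq_bot_iff]
      intro x hx
      have : c 1 x ∈ U := Subgroup.mem_iSup_of_mem 1 ⟨x, hx, rfl⟩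
      rw [h, Subgroup.mem_bot] at this
      rw [Subgroup.mem_bot]
      exact (c 1).injective (this.trans (map_one _).symm)
    · apply Subgroup.map_injective N.subtype_injective
      rw [h, ← MonoidHom.range_eq_map, Subgroup.range_subtype]
  -- a maximal direct power of `S` inside `N`
  let P : ℕ → Prop := fun n => ∃ φ : (Fin n → S) →* N, Function.Injective φ ∧ φ.range.Normal
  have hS2 : 2 ≤ Nat.card S := by
    have : Nontrivial S := (Subgroup.nontrivial_iff_ne_bot S).2 hSne
    exact Finite.one_lt_card_iff_nontrivial.2 this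
  have hbd : ∀ n, P n → n ≤ Nat.card N := by
    rintro n ⟨φ, hφ, -⟩
    have := Nat.card_le_card_of_injective φ hφ
    rw [Nat.card_fun, Nat.card_fin] at this
    exact le_trans (Nat.le_of_lt (Nat.lt_pow_self hS2)) this
  have hP0 : P 0 := by
    refine ⟨1, fun a b _ => Subsingleton.elim a b, ?_⟩
    rw [MonoidHom.range_one]
    infer_instance
  obtain ⟨n, hn, hnmax⟩ : ∃ n, P n ∧ ∀ n', P n' → n' ≤ n :=
    ⟨Nat.findGreatest P (Nat.card N), Nat.findGreatest_spec (Nat.zero_le _) hP0,
      fun n' h => Nat.le_findGreatest (hbd n' h) h⟩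
  obtain ⟨φ, hφ, hφn⟩ := hn
  have hsurj : φ.range = ⊤ := by
    rw [eq_top_iff, ← hgen, iSup_le_iff]
    intro h
    haveI := hφn
    haveI := hCn h
    rcases hCmin h (C h ⊓ φ.range) inferInstance inf_le_left with e | e
    · exfalso
      let ψ : S →* N := (c h).toMonoidHom.comp S.subtype
      have hψr : ψ.range = C h := by
        rw [MonoidHom.range_comp, Subgroup.range_subtype]
      have hcomm : ∀ (f : Fin n → S) (s : S), Commute (φ f) (ψ s) := fun f s =>
        Subgroup.commute_of_normal_of_disjoint φ.range (C h) hφn (hCn h)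
          (disjoint_iff.2 (by rw [inf_comm]; exact e)) _ _ ⟨f, rfl⟩ (hψr ▸ ⟨s, rfl⟩)
      let Φ : (Fin n → S) × S →* N := φ.noncommCoprod ψ hcomm
      have hΦ : Function.Injective Φ := by
        rw [injective_iff_map_eq_one]
        rintro ⟨f, s⟩ hfs
        have hfs' : φ f * ψ s = 1 := hfs
        have h1 : φ f ∈ C h ⊓ φ.range := by
          refine ⟨?_, f, rfl⟩
          rw [eq_inv_of_mul_eq_one_left hfs']
          exact Subgroup.inv_mem _ (hψr ▸ ⟨s, rfl⟩ : ψ s ∈ C h)
        rw [e, Subgroup.mem_bot] at h1
        have hf : f = 1 := hφ (h1.trans (map_one _).symm)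
        rw [h1, one_mul] at hfs'
        have hs : s = 1 := by
          apply Subtype.ext
          have h2 : c h (s : N) = 1 := hfs'
          exact (c h).injective (h2.trans (map_one _).symm)
        rw [hf, hs]; rfl
      have hrange : Φ.range = φ.range ⊔ ψ.range := MonoidHom.noncommCoprod_range φ ψ hcomm
      let e' : (Fin (n + 1) → S) ≃* (Fin n → S) × S :=
        { toFun := fun f => (fun i => f i.succ, f 0)
          invFun := fun p => Fin.cons p.2 p.1
          left_inv := fun f => Fin.cons_self_tail f
          right_inv := fun p => by simp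
          map_mul' := fun f g => rfl }
      have : n + 1 ≤ n := hnmax (n + 1) ⟨Φ.comp e'.toMonoidHom, hΦ.comp e'.injective, by
        rw [MonoidHom.range_comp, MonoidHom.range_eq_top.2 e'.surjective, ← MonoidHom.range_eq_map,
          hrange, hψr]
        infer_instance⟩
      omega
    · rw [← e]; exact inf_le_right
  have hnpos : 0 < n := by
    rcases Nat.eq_zero_or_pos n with h | h
    · subst h
      exfalso
      apply hSne
      rw [eq_bot_iff]
      intro x _
      have : x ∈ φ.range := hsurj ▸ Subgroup.mem_top x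
      obtain ⟨f, rfl⟩ := this
      rw [Subgroup.mem_bot, show f = 1 from Subsingleton.elim _ _, map_one]
    · exact h
  have hsimple : IsSimpleGroup S := by
    haveI : Nontrivial S := (Subgroup.nontrivial_iff_ne_bot S).2 hSne
    refine ⟨fun M hM => ?_⟩
    have hMn : (M.map S.subtype).Normal := by
      rw [← Subgroup.normalizer_eq_top_iff, eq_top_iff, ← hgen, iSup_le_iff]
      intro h z hz
      rw [Subgroup.mem_normalizer_iff]
      haveI := hCn h
      rcases hCmin h (C h ⊓ S) inferInstance inf_le_left with e | e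
      · -- the conjugate centralises `S`
        have hc : ∀ x ∈ M.map S.subtype, Commute z x := fun x hx =>
          Subgroup.commute_of_normal_of_disjoint (C h) S (hCn h) hSn (disjoint_iff.2 e) _ _ hz
            (Subgroup.map_subtype_le M hx)
        intro x
        constructor
        · intro hx
          rwa [(hc x hx).eq, mul_inv_cancel_right]
        · intro hx
          have h2 := (hc _ hx).eq
          have h3 : z * (z * x * z⁻¹) = z * (x : N) := by rw [h2]; group
          rw [mul_left_cancel h3] at hx
          exact hx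
      · have hzS : z ∈ S := inf_le_right (a := C h) (e.symm ▸ hz)
        intro x
        constructor
        · rintro ⟨y, hy, rfl⟩
          exact ⟨⟨z, hzS⟩ * y * ⟨z, hzS⟩⁻¹, hM.conj_mem y hy _, rfl⟩
        · rintro ⟨y, hy, hyx⟩
          refine ⟨⟨z, hzS⟩⁻¹ * y * ⟨z, hzS⟩⁻¹⁻¹, hM.conj_mem y hy _, ?_⟩
          have hyx' : (y : N) = z * x * z⁻¹ := hyx
          show z⁻¹ * (y : N) * z⁻¹⁻¹ = x
          rw [hyx']; group
    rcases hSmin' _ hMn (Subgroup.map_subtype_le M) with e | e
    · exact Or.inl ((Subgroup.map_eq_bot_iff_of_injective _ S.subtype_injective).1 e)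
    · right
      apply Subgroup.map_injective S.subtype_injective
      rw [e, ← MonoidHom.range_eq_map, Subgroup.range_subtype]
  obtain ⟨T, hT, hTf, ⟨eT⟩⟩ := exists_small_group (S := S)
  refine ⟨T, hT, hTf, n, ?_, hnpos, ?_⟩
  · haveI := hsimple
    haveI : Nontrivial T := eT.symm.toEquiv.nontrivial
    exact IsSimpleGroup.isSimpleGroup_of_surjective eT.toMonoidHom eT.surjective
  · exact ⟨((MulEquiv.ofBijective φ ⟨hφ, MonoidHom.range_eq_top.1 hsurj⟩).symm).trans
      (MulEquiv.piCongrRight fun _ => eT)⟩

end Cfsg.Agent.PermB
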