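import Cfsg.Agent.PermB.Recognition

/-! Recognition of `PSL(2, K)` for two point stabilisers of odd order. -/

set_option autoImplicit false

open scoped OnePoint MatrixGroups

namespace Cfsg.Agent.PermB

open MulAction

variable {G α : Type*} [Group G] [MulAction G α]

/-- The map `x ↦ -x⁻¹` of the projective line. -/
noncomputable def Mobius.negInvPerm {K : Type*} [Field K] [DecidableEq K] :
    Equiv.Perm (OnePoint K) :=
  Mobius.glPerm (Matrix.GeneralLinearGroup.mkOfDetNeZero !![(0 : K), -1; 1, 0]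
    (by simp [Matrix.det_fin_two]))

theorem Mobius.negInvPerm_infty {K : Type*} [Field K] [DecidableEq K] :
    Mobius.negInvPerm (K := K) ∞ = ((0 : K) : OnePoint K) := by
  rw [Mobius.negInvPerm, Mobius.glPerm_apply, OnePoint.smul_infty_eq_ite]
  simp [Matrix.GeneralLinearGroup.mkOfDetNeZero]

theorem Mobius.negInvPerm_coe {K : Type*} [Field K] [DecidableEq K] (x : K) :
    Mobius.negInvPerm (x : OnePoint K) = if x = 0 then ∞ else ((-x⁻¹ : K) : OnePoint K) := by
  rw [Mobius.negInvPerm, Mobius.glPerm_apply, OnePoint.smul_some_eq_ite]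
  simp [Matrix.GeneralLinearGroup.mkOfDetNeZero, neg_div]

theorem Mobius.negInvPerm_mem_psl {K : Type*} [Field K] [DecidableEq K] :
    Mobius.negInvPerm ∈ (Mobius.pslPerm (K := K)).range :=
  Mobius.mem_psl _ (by simp [Matrix.det_fin_two])

open Classical in
/-- A swapper without fixed points inverting half of the possible two point stabiliser, of odd
order: `PSL(2, K)`. -/
theorem exists_mulEquiv_psl_odd [Finite α] [Finite G] (hz : ZData G α) {N : Subgroup G} {a b : α}
    (hN : IsKernel N a) (hab : a ≠ b) (hNc : IsMulCommutative N)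
    {s₀ : G} (hs₀a : s₀ • a = b) (hs₀b : s₀ • b = a)
    (hinv₀ : ∀ h ∈ ZData.H2 (G := G) a b, s₀ * h * s₀⁻¹ = h⁻¹)
    (hfree : ∀ s : G, s • a = b → s • b = a → s * s = 1 ∧ ∀ x : α, s • x ≠ x)
    (hd : 2 * Nat.card (ZData.H2 (G := G) a b) + 2 = Nat.card α)
    (hodd : Odd (Nat.card (ZData.H2 (G := G) a b))) :
    ∃ (K : Type) (_ : Field K) (_ : Fintype K), Fintype.card K + 1 = Nat.card α ∧
      ringChar K ≠ 2 ∧ Nonempty (G ≃* Matrix.ProjectiveSpecialLinearGroup (Fin 2) K) := by
  set d := Nat.card (ZData.H2 (G := G) a b) with hddef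
  have hdpos : 0 < d := Nat.card_pos
  obtain ⟨c, hca, hcb⟩ := exists_ne_ne (show 3 ≤ Nat.card α by omega) a b
  obtain ⟨K, iK, iF, e, χ, hea, heb, hec, hcard, hχ, hact, htr⟩ :=
    exists_coordinates hz hN hab hca hcb hNc (isMulCommutative_of_inverted hinv₀)
      (fun M hM hMi => hN.irreducible hz hab.symm (show Nat.card α - 2 ≤ 2 * d by omega) M hM hMi)
  let φ : G →* Equiv.Perm (OnePoint K) :=
    (e.permCongrHom.toMonoidHom).comp (MulAction.toPermHom G α)
  have hφ' : ∀ (g : G) (y : α), φ g (e y) = e (g • y) := fun g y => by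
    show e (g • e.symm (e y)) = _
    rw [Equiv.symm_apply_apply]
  have hφinj : Function.Injective φ := by
    rw [injective_iff_map_eq_one]
    intro g hg
    refine hz.faithful g fun y => e.injective ?_
    rw [← hφ', hg]; rfl
  have hsymm : ∀ h : ZData.H2 (G := G) a b, φ h = Mobius.affPerm (χ h) 0 := fun h =>
    Equiv.ext fun x => by
      obtain ⟨y, rfl⟩ := e.surjective x
      rw [hφ', hact]
  set S : Subgroup Kˣ := χ.range
  have hS : Nat.card S = d := (Nat.card_congr (MonoidHom.ofInjective hχ).toEquiv).symm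
  have hchar : ringChar K ≠ 2 := fun h => by
    have := FiniteField.even_card_iff_char_two.1 h
    omega
  have hidx : S.index = 2 := by
    have h := Subgroup.card_mul_index S
    rw [hS, Nat.card_units, Nat.card_eq_fintype_card (α := K)] at h
    refine Nat.eq_of_mul_eq_mul_left hdpos ?_
    omega
  have hroot : ∀ u ∈ S, ∃ v ∈ S, v * v = u := by
    intro u hu
    obtain ⟨r, hr⟩ := hodd
    refine ⟨u ^ (r + 1), S.pow_mem hu _, ?_⟩
    have h1 : (⟨u, hu⟩ : S) ^ Nat.card S = 1 := pow_card_eq_one'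
    rw [hS] at h1
    have h1' : u ^ d = 1 := congrArg Subtype.val h1
    rw [← pow_add, show r + 1 + (r + 1) = d + 1 by omega, pow_succ, h1', one_mul]
  -- `S` is the group of squares
  have hsq : ∀ u : Kˣ, u ∈ S ↔ IsSquare (u : K) := by
    intro u
    constructor
    · intro hu
      obtain ⟨v, -, rfl⟩ := hroot u hu
      exact ⟨v, Units.val_mul v v⟩
    · rintro ⟨r, hr⟩
      have hr0 : r ≠ 0 := fun e => u.ne_zero (by rw [hr, e, mul_zero])
      rw [show u = Units.mk0 r hr0 ^ 2 from Units.ext (by rw [hr, Units.val_pow_eq_pow_val, Units.val_mk0, pow_two])]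
      exact Subgroup.sq_mem_of_index_two hidx _
  have hneg : (-1 : Kˣ) ∉ S := by
    intro h
    have h1 := orderOf_dvd_natCard (⟨-1, h⟩ : S)
    rw [hS, Subgroup.orderOf_mk] at h1
    have h2 : orderOf (-1 : Kˣ) = 2 := by
      refine orderOf_eq_prime (by simp) fun e => hchar ?_
      have h3 := congrArg Units.val e
      simp only [Units.val_neg, Units.val_one] at h3
      by_contra hne
      exact Ring.neg_one_ne_one_of_char_ne_two hne h3
    rw [h2] at h1
    exact Nat.not_even_iff_odd.2 hodd (even_iff_two_dvd.2 h1)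
  -- a swapper sending `1` to `-1`
  obtain ⟨s, hsa, hsb, hinv, hs1⟩ : ∃ s : G, s • a = b ∧ s • b = a ∧
      (∀ h ∈ ZData.H2 (G := G) a b, s * h * s⁻¹ = h⁻¹) ∧
      φ s ((1 : K) : OnePoint K) = ((-1 : K) : OnePoint K) := by
    obtain ⟨w, hw0, hw⟩ : ∃ w : K, w ≠ 0 ∧ φ s₀ ((1 : K) : OnePoint K) = (w : OnePoint K) := by
      rcases h : φ s₀ ((1 : K) : OnePoint K) with _ | w
      · exfalso
        rw [← hec, hφ'] at h
        exact hcb (MulAction.injective s₀ ((e.injective (h.trans hea.symm)).trans hs₀b.symm))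
      · refine ⟨w, fun e' => ?_, rfl⟩
        subst e'
        rw [← hec, hφ'] at h
        exact hca (MulAction.injective s₀ ((e.injective (h.trans heb.symm)).trans hs₀a.symm))
    -- the image of a point `u ∈ S`
    have himg : ∀ h : ZData.H2 (G := G) a b, φ (s₀ * h) ((1 : K) : OnePoint K) =
        ((((χ h)⁻¹ : Kˣ) : K) * w : K) := by
      intro h
      have e1 : s₀ * (h : G) = ((h⁻¹ : ZData.H2 (G := G) a b) : G) * s₀ := by
        rw [Subgroup.coe_inv, ← hinv₀ h h.2]; group
      rw [e1, map_mul, Equiv.Perm.mul_apply, hw, hsymm, Mobius.affPerm_coe, map_inv, add_zero]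
    have hwS : Units.mk0 w hw0 ∉ S := by
      intro hmem
      obtain ⟨v, hvS, hv⟩ := hroot _ hmem
      obtain ⟨h, rfl⟩ := hvS
      refine (hfree s₀ hs₀a hs₀b).2 ((h : G) • c) (e.injective ?_)
      have e1 : e ((h : G) • c) = (((χ h : Kˣ) : K) : OnePoint K) := by
        rw [hact, hec, Mobius.affPerm_coe]; simp
      rw [← mul_smul, ← hφ', hec, himg, e1, OnePoint.coe_eq_coe]
      have hvw : ((χ h : Kˣ) : K) * (χ h : Kˣ) = w := by
        rw [← Units.val_mul, hv, Units.val_mk0]
      rw [← hvw, ← mul_assoc, Units.inv_mul, one_mul]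
    have hwneg : -(Units.mk0 w hw0) ∈ S := by
      rw [show -(Units.mk0 w hw0) = -1 * Units.mk0 w hw0 by simp,
        Subgroup.mul_mem_iff_of_index_two hidx]
      exact iff_of_false hneg hwS
    obtain ⟨h, hh⟩ := hwneg
    have hhw : (((χ h)⁻¹ : Kˣ) : K) * w = -1 := by
      have hv : ((χ h : Kˣ) : K) = -w := by rw [hh, Units.val_neg, Units.val_mk0]
      rw [Units.val_inv_eq_inv_val, hv]
      field_simp
    have hab' := ZData.mem_H2.1 h.2
    refine ⟨s₀ * h, by rw [mul_smul, hab'.1, hs₀a], by rw [mul_smul, hab'.2, hs₀b], fun k hk => ?_,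
      by rw [himg, hhw]⟩
    rw [show s₀ * (h : G) * k * (s₀ * h)⁻¹ = s₀ * ((h : G) * k * (h : G)⁻¹) * s₀⁻¹ by group,
      show (h : G) * k * (h : G)⁻¹ = k by
        rw [show (h : G) * k = k * h from congrArg Subtype.val
          ((isMulCommutative_of_inverted hinv₀).is_comm.comm h ⟨k, hk⟩), mul_inv_cancel_right],
      hinv₀ k hk]
  have hss : φ s * φ s = 1 := by rw [← map_mul, (hfree s hsa hsb).1, map_one]
  have hinf : φ s ∞ = ((0 : K) : OnePoint K) := by rw [← hea, hφ', hsa, heb]
  have hs0 : φ s ((0 : K) : OnePoint K) = ∞ := by rw [← heb, hφ', hsb, hea]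
  have hsS : ∀ h : ZData.H2 (G := G) a b, φ s (((χ h : Kˣ) : K) : OnePoint K) =
      ((-(((χ h)⁻¹ : Kˣ) : K) : K) : OnePoint K) := by
    intro h
    have e1 : s * (h : G) = ((h⁻¹ : ZData.H2 (G := G) a b) : G) * s := by
      rw [Subgroup.coe_inv, ← hinv h h.2]; group
    have e2 : (((χ h : Kˣ) : K) : OnePoint K) = φ h ((1 : K) : OnePoint K) := by
      rw [hsymm, Mobius.affPerm_coe]; simp
    rw [e2, ← Equiv.Perm.mul_apply, ← map_mul, e1, map_mul, Equiv.Perm.mul_apply, hs1, hsymm,
      Mobius.affPerm_coe, map_inv]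
    simp
  have hsneg : φ s = Mobius.negInvPerm := by
    refine Equiv.ext fun x => ?_
    cases x with
    | infty => rw [hinf, Mobius.negInvPerm_infty]
    | coe y =>
      rw [Mobius.negInvPerm_coe]
      by_cases hy : y = 0
      · subst hy; rw [if_pos rfl]; exact hs0
      rw [if_neg hy]
      by_cases hyS : Units.mk0 y hy ∈ S
      · obtain ⟨h, hh⟩ := hyS
        have := hsS h
        rw [hh] at this
        simpa using this
      · have hm : -(Units.mk0 y hy)⁻¹ ∈ S := by
          rw [show -(Units.mk0 y hy)⁻¹ = -1 * (Units.mk0 y hy)⁻¹ by simp,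
            Subgroup.mul_mem_iff_of_index_two hidx, inv_mem_iff]
          exact iff_of_false hneg hyS
        obtain ⟨h, hh⟩ := hm
        have h1 := hsS h
        rw [hh] at h1
        have h2 := congrArg (φ s) h1
        rw [← Equiv.Perm.mul_apply, hss, Equiv.Perm.one_apply] at h2
        simpa using h2.symm
  -- the range
  set R := (Mobius.pslPerm (K := K)).range
  have htrans : ∀ v : K, ∃ g : G, φ g = Mobius.affPerm 1 v := fun v => by
    obtain ⟨g, -, hg⟩ := htr v
    exact ⟨g, Equiv.ext fun x => by obtain ⟨y, rfl⟩ := e.surjective x; rw [hφ', hg]⟩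
  have hstab : ∀ g : G, φ g ∞ = ∞ → φ g ∈ R := by
    intro g hg
    rcases hv : φ g ((0 : K) : OnePoint K) with _ | v
    · exfalso
      exact OnePoint.coe_ne_infty (0 : K) ((φ g).injective (hv.trans hg.symm))
    obtain ⟨t, ht⟩ := htrans v
    have hmem : t⁻¹ * g ∈ ZData.H2 (G := G) a b := by
      refine ⟨?_, ?_⟩ <;> apply e.injective <;>
        rw [← hφ', map_mul, map_inv, Equiv.Perm.mul_apply, Equiv.Perm.inv_eq_iff_eq, ht]
      · rw [hea, hg, Mobius.affPerm_infty]
      · rw [heb, hv, Mobius.affPerm_coe]; simp; rfl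
    have e1 : φ g = φ t * φ (t⁻¹ * g) := by rw [← map_mul, mul_inv_cancel_left]
    rw [e1, ht, hsymm ⟨_, hmem⟩]
    exact R.mul_mem (Mobius.affPerm_mem_psl 1 v (by simp))
      (Mobius.affPerm_mem_psl _ 0 ((hsq _).1 ⟨_, rfl⟩))
  have hall : ∀ g : G, φ g ∈ R := by
    intro g
    rcases hv : φ g ∞ with _ | v
    · exact hstab g hv
    · obtain ⟨t, ht⟩ := htrans (-v)
      have h1 : φ (s * t * g) ∞ = ∞ := by
        rw [map_mul, map_mul, Equiv.Perm.mul_apply, Equiv.Perm.mul_apply, hv, ht]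
        show φ s (Mobius.affPerm 1 (-v) (v : OnePoint K)) = ∞
        rw [Mobius.affPerm_coe]
        simpa using hs0
      have h2 := hstab _ h1
      rw [map_mul, map_mul, hsneg, ht] at h2
      exact (R.mul_mem_cancel_left (R.mul_mem Mobius.negInvPerm_mem_psl
        (Mobius.affPerm_mem_psl 1 (-v) (by simp)))).1 h2
  have hrange : φ.range = R := by
    refine le_antisymm (by rintro _ ⟨g, rfl⟩; exact hall g) fun π hπ => ?_
    obtain ⟨g, hga, hgb⟩ := hz.two hab (c := e.symm (π ∞))
      (d := e.symm (π ((0 : K) : OnePoint K))) (by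
        intro h
        exact OnePoint.infty_ne_coe (0 : K) (π.injective (e.symm.injective h)))
    have e1 : ((φ g)⁻¹ * π) ∞ = ∞ := by
      rw [Equiv.Perm.mul_apply, Equiv.Perm.inv_eq_iff_eq, ← hea, hφ', hga, hea, Equiv.apply_symm_apply]
    have e2 : ((φ g)⁻¹ * π) ((0 : K) : OnePoint K) = ((0 : K) : OnePoint K) := by
      rw [Equiv.Perm.mul_apply, Equiv.Perm.inv_eq_iff_eq, ← heb, hφ', hgb, heb, Equiv.apply_symm_apply]
    obtain ⟨u, hu, hπu⟩ := Mobius.psl_fix (R.mul_mem (R.inv_mem (hall g)) hπ) e1 e2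
    obtain ⟨h, rfl⟩ := (hsq u).2 hu
    exact ⟨g * h, by rw [map_mul, hsymm, ← hπu, mul_inv_cancel_left]⟩
  exact ⟨K, iK, iF, hcard, hchar, ⟨((MonoidHom.ofInjective hφinj).trans (MulEquiv.subgroupCongr hrange)).trans
    (MonoidHom.ofInjective Mobius.pslPerm_injective).symm⟩⟩

end Cfsg.Agent.PermB
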