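import Cfsg.Agent.PermB.Sharp3
import Cfsg.Agent.Lib.FrobeniusComplement

/-! Sharply triply transitive groups of even degree: swappers and subgroups of order three. -/

set_option autoImplicit false

namespace Cfsg.Agent.PermB.ZData

open MulAction

variable {G α : Type*} [Group G] [MulAction G α]

theorem even_H2_of_sharp3 [Finite α] [Finite G] (hz : ZData G α) (hcard : 3 ≤ Nat.card α)
    (heven : Even (Nat.card α)) (h : IsMultiplyPretransitive G α 3) {a b : α} (hab : a ≠ b) :
    Even (Nat.card (H2 (G := G) a b)) := by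
  have := hz.card_H2_of_sharp3 hcard h hab
  rw [Nat.even_iff] at heven ⊢
  omega

/-- Commutative subgroups of a two point stabiliser are cyclic. -/
theorem isCyclic_of_le_H2 [Finite G] (hz : ZData G α) {N : Subgroup G} {a b : α}
    (hN : IsKernel N a) (hb : b ≠ a) (hN1 : N ≠ ⊥) (A : Subgroup G) (hA : A ≤ H2 a b)
    (hc : IsMulCommutative A) : IsCyclic A := by
  refine FrobeniusCompl.isCyclic_of_le (K := N) (H := H2 a b) ?_ hN1 ?_ A hA (Or.inl hc)
  · intro h hh
    rw [Subgroup.mem_normalizer_iff]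
    refine fun u => ⟨fun hu => hN.conj h hh.1 u hu, fun hu => ?_⟩
    have := hN.conj h⁻¹ ((stabilizer G a).inv_mem hh.1) _ hu
    simpa [mul_assoc] using this
  · intro h hh h1
    rw [Subgroup.eq_bot_iff_forall]
    intro u hu
    by_contra hu1
    refine h1 (hN.eq_one_of_commute hz hb hh hu.1 hu1 ?_)
    rw [Subgroup.mem_centralizer_iff.1 hu.2 h rfl]
    group

/-- If an element of order three of `H2 a b` is given, every swapper with a further fixed point
inverts it. -/
theorem swapper_inverts (hz : ZData G α) (h : IsMultiplyPretransitive G α 3) {a b e : α}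
    (hab : a ≠ b) (hea : e ≠ a) (heb : e ≠ b) {x s : G} (hx : x ∈ H2 a b) (hx3 : x ^ 3 = 1)
    (hx1 : x ≠ 1) (hsa : s • a = b) (hsb : s • b = a) (hse : s • e = e) :
    s * x * s⁻¹ = x⁻¹ := by
  have h2 : x⁻¹ = x * x := inv_eq_of_mul_eq_one_right (by rw [← hx3, pow_three])
  have hxe : x • e ≠ e := fun e' => hx1 (hz.three x hab heb.symm hea.symm hx.1 hx.2 e')
  have hxxe : x • x • e ≠ e := fun e' => hx1 (by
    have h3 : x • x • x • e = e := by rw [← mul_smul, ← mul_smul, ← pow_three', hx3, one_smul]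
    rw [e'] at h3
    exact absurd h3 hxe)
  have hne : x • e ≠ x • x • e := fun e' => hxe (MulAction.injective x e'.symm)
  obtain ⟨u, hue, hux, huxx⟩ := PermLib.three_pretransitive_iff.1 h e (x • e) (x • x • e)
    e (x • x • e) (x • e) hxe.symm hxxe.symm hne hxxe.symm hxe.symm hne.symm
  have e3 : x • x • x • e = e := by rw [← mul_smul, ← mul_smul, ← pow_three', hx3, one_smul]
  have hue' : u⁻¹ • e = e := by rw [inv_smul_eq_iff, hue]
  have hconj : u * x * u⁻¹ = x⁻¹ := by
    refine hz.eq_of_agree hxe.symm hne hxxe.symm ?_ ?_ ?_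
    · rw [mul_smul, mul_smul, hue', hux, h2, mul_smul]
    · rw [mul_smul, mul_smul, show u⁻¹ • x • e = x • x • e by rw [inv_smul_eq_iff, huxx], e3, hue,
        inv_smul_smul]
    · rw [mul_smul, mul_smul, show u⁻¹ • x • x • e = x • e by rw [inv_smul_eq_iff, hux], huxx,
        inv_smul_smul]
  have hfix : ∀ y : α, x • y = y → y = a ∨ y = b := by
    intro y hy
    by_contra hne'
    push Not at hne'
    exact hx1 (hz.three x hab hne'.2.symm hne'.1.symm hx.1 hx.2 hy)
  have hperm : ∀ y : α, x • y = y → x • u • y = u • y := by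
    intro y hy
    have e1 : (u * x * u⁻¹) • u • y = u • y := by rw [mul_smul, mul_smul, inv_smul_smul, hy]
    rw [hconj, inv_smul_eq_iff] at e1
    exact e1.symm
  have hua : u • a = b := by
    rcases hfix _ (hperm a hx.1) with h' | h'
    · exfalso
      have hub : u • b = b := by
        rcases hfix _ (hperm b hx.2) with h'' | h''
        · exact absurd (MulAction.injective u (h''.trans h'.symm)) hab.symm
        · exact h''
      have hu1 : u = 1 := hz.three u hab heb.symm hea.symm h' hub hue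
      rw [hu1] at hconj
      have : x = x⁻¹ := by simpa using hconj
      refine hx1 ?_
      calc x = x ^ 3 * (x * x)⁻¹ := by rw [pow_three']; group
        _ = (x * x⁻¹)⁻¹ := by rw [hx3, one_mul, ← this]
        _ = 1 := by group
    · exact h'
  have hub : u • b = a := by
    rcases hfix _ (hperm b hx.2) with h' | h'
    · exact h'
    · exact absurd (MulAction.injective u (hua.trans h'.symm)) hab
  have hsu : u = s := hz.eq_of_agree hab heb.symm hea.symm (hua.trans hsa.symm)
    (hub.trans hsb.symm) (hue.trans hse.symm)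
  rw [← hsu, hconj]

/-- There is at most one subgroup of order three in a two point stabiliser. -/
theorem mem_zpowers_of_order_three [Finite α] [Finite G] (hz : ZData G α) (hcard : 3 ≤ Nat.card α)
    (heven : Even (Nat.card α)) (h : IsMultiplyPretransitive G α 3) {a b : α} (hab : a ≠ b)
    {x y : G} (hx : x ∈ H2 a b) (hy : y ∈ H2 a b) (hx3 : orderOf x = 3) (hy3 : orderOf y = 3) :
    y ∈ Subgroup.zpowers x := by
  classical
  have hd := hz.even_H2_of_sharp3 hcard heven h hab
  have hdn := hz.card_H2_of_sharp3 hcard h hab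
  obtain ⟨N, hN, -, -, -⟩ := hz.exists_kernel_of_even hab hcard hd
  set H := H2 (G := G) a b with hH
  let C : Subgroup G := H ⊓ Subgroup.centralizer {x}
  set T : Set G := {t : G | t * t = 1 ∧ t ≠ 1 ∧ (∃ e : α, t • e = e) ∧ t • a = b}
  have hT : 2 * T.ncard + 2 = Nat.card α := by
    have h' := hz.two_mul_card_swappers hab hcard hd
    change 2 * T.ncard = _ at h'
    omega
  have hTinv : ∀ t ∈ T, t * x * t⁻¹ = x⁻¹ ∧ t • a = b ∧ t • b = a := by
    rintro t ⟨htt, ht1, ⟨e, he⟩, hta⟩
    have htb : t • b = a := by rw [← hta, ← mul_smul, htt, one_smul]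
    have hea : e ≠ a := fun e' => hab (by rw [← hta]; rw [e'] at he; exact he.symm)
    have heb : e ≠ b := fun e' => hab.symm (by rw [← htb]; rw [e'] at he; exact he.symm)
    exact ⟨hz.swapper_inverts h hab hea heb hx (by rw [← hx3, pow_orderOf_eq_one])
      (fun e' => by rw [e', orderOf_one] at hx3; omega) hta htb he, hta, htb⟩
  obtain ⟨t₀, ht₀⟩ : T.Nonempty := Set.nonempty_of_ncard_ne_zero (by
    intro h0
    omega)
  obtain ⟨e₀, e₀a, e₀b⟩ := hTinv t₀ ht₀
  have hle : T.ncard ≤ Nat.card C := by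
    rw [← Nat.card_coe_set_eq]
    refine Nat.card_le_card_of_injective (fun t : T => (⟨t₀⁻¹ * (t : G), ?_, ?_⟩ : C))
      fun t t' e => Subtype.ext (mul_left_cancel (congrArg Subtype.val e))
    · obtain ⟨-, ta, tb⟩ := hTinv t t.2
      refine mem_H2.2 ⟨?_, ?_⟩
      · rw [mul_smul, ta, inv_smul_eq_iff, e₀a]
      · rw [mul_smul, tb, inv_smul_eq_iff, e₀b]
    · obtain ⟨et, -, -⟩ := hTinv t t.2
      refine Subgroup.mem_centralizer_iff.2 ?_
      intro w hw
      rw [Set.mem_singleton_iff.1 hw]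
      have e1 : t₀⁻¹ * x⁻¹ * t₀ = x := by rw [← e₀]; group
      calc x * (t₀⁻¹ * (t : G)) = t₀⁻¹ * x⁻¹ * t₀ * (t₀⁻¹ * (t : G)) := by rw [e1]
        _ = t₀⁻¹ * ((t : G) * x * (t : G)⁻¹) * (t : G) := by rw [et]; group
        _ = t₀⁻¹ * (t : G) * x := by group
  let C' : Subgroup H := C.subgroupOf H
  have hC' : Nat.card C' = Nat.card C :=
    Nat.card_congr (Subgroup.subgroupOfEquivOfLe (inf_le_left : C ≤ H)).toEquiv
  have hidx : C'.index ≤ 2 := by
    have e := Subgroup.card_mul_index C'
    rw [hC'] at e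
    have hHpos : 0 < Nat.card H := Nat.card_pos
    nlinarith
  have hyC : y ∈ C := by
    have hy4 : y = (y * y) * (y * y) := by
      have : y ^ 3 = 1 := by rw [← hy3, pow_orderOf_eq_one]
      calc y = y * y ^ 3 := by rw [this, mul_one]
        _ = _ := by rw [pow_three]; group
    rcases Nat.lt_or_ge C'.index 2 with h1 | h1
    · have h0 : C'.index ≠ 0 := Subgroup.index_ne_zero_of_finite
      have : C' = ⊤ := Subgroup.index_eq_one.1 (by omega)
      have hmem : (⟨y, hy⟩ : H) ∈ C' := this ▸ Subgroup.mem_top _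
      exact hmem
    · have h2 : (⟨y, hy⟩ * ⟨y, hy⟩ : H) * (⟨y, hy⟩ * ⟨y, hy⟩) ∈ C' :=
        Subgroup.mul_self_mem_of_index_two (le_antisymm hidx h1) _
      have h3 : (y * y) * (y * y) ∈ C := h2
      rwa [← hy4] at h3
  have hcomm : x * y = y * x := Subgroup.mem_centralizer_iff.1 hyC.2 x rfl
  let A : Subgroup G := Subgroup.closure {x, y}
  have hA : A ≤ H := (Subgroup.closure_le _).2 (by
    rintro z (rfl | rfl) <;> assumption)
  have hAc : IsMulCommutative A := by
    refine Subgroup.isMulCommutative_closure ?_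
    rintro u (rfl | rfl) v (rfl | rfl)
    · rfl
    · exact hcomm
    · exact hcomm.symm
    · rfl
  have hN1 : N ≠ ⊥ := by
    intro h1
    have := hN.card_add_one hab.symm
    rw [h1, Subgroup.card_bot] at this
    omega
  haveI := hz.isCyclic_of_le_H2 hN hab.symm hN1 A hA hAc
  have hxA : x ∈ A := Subgroup.subset_closure (Or.inl rfl)
  have hyA : y ∈ A := Subgroup.subset_closure (Or.inr rfl)
  have := FrobeniusCompl.eq_of_card_eq (C := A) (A := Subgroup.zpowers (⟨x, hxA⟩ : A))
    (B := Subgroup.zpowers (⟨y, hyA⟩ : A))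
    (by rw [Nat.card_zpowers, Nat.card_zpowers, Subgroup.orderOf_mk, Subgroup.orderOf_mk, hx3, hy3])
  have hm : (⟨y, hyA⟩ : A) ∈ Subgroup.zpowers (⟨x, hxA⟩ : A) := this ▸ Subgroup.mem_zpowers _
  obtain ⟨k, hk⟩ := Subgroup.mem_zpowers_iff.1 hm
  exact Subgroup.mem_zpowers_iff.2 ⟨k, congrArg Subtype.val hk⟩

end Cfsg.Agent.PermB.ZData
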